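import Cfsg.Agent.H167.EX.Frame
import Cfsg.Agent.H512.LinFour.IdealF

/-!
# TEAM RV, row R5 for `F₄, E₆, ²E₆, E₇, E₈`: the adjoint module (helper971)

* `faithful` : if `c ≠ 1` has order prime to `p` and `g` acts trivially on `[V, c]` then `g = 1`;
* `six` : if `c` centralises the fundamental subgroup `L_s` and `t = ph A`, `A ^ 2 - A + 1 = 0`, then
  `(c - 1) (t - 1) (t ^ 2 - t + 1) = 0` on `V`.
-/

set_option autoImplicit false
set_option linter.unusedSectionVars false

namespace Cfsg.Agent.H971.RV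

open CoxeterSystem Cfsg Cfsg.Lie Cfsg.Lie.ChevalleyDatum
open Cfsg.Agent.ChevalleyStructure Cfsg.Agent.ChevalleyStructure.Elts Cfsg.Agent.ChevalleyStructure.CoxeterGeom
  Cfsg.Agent.ChevalleyStructure.CoxeterGeomTypes Cfsg.Agent.ChevalleyStructure.NPerm
open Cfsg.Agent.ChevalleyStructure.LieAbs Cfsg.Agent.ChevalleyStructure.Ring Cfsg.Agent.ChevalleyStructure.JacMain
  Cfsg.Agent.ChevalleyStructure.LieAut Cfsg.Agent.ChevalleyStructure.JacAll
open Cfsg.Agent.Tits.Roots Cfsg.Agent.Tits.Core Cfsg.Agent.Nodes Cfsg.Agent.Nodes.Reps Cfsg.Agent.Nodes.BNOf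
  Cfsg.Agent.Nodes.RGDChev
open Cfsg.Agent.Nodes.RGDFoldSL
open Cfsg.Agent.ChevalleyStructure.SL2Hom (up lo mem_closure_SL2)
open Cfsg.Agent.H167.EX Cfsg.Agent.H512.LinFour.IdealF
open Module Matrix

universe u v

variable {D : ChevalleyDatum} {k : Type u} [Field k]

/-! ### the bracket -/

/-- the bracket of the Lie algebra -/
noncomputable def br (D : ChevalleyDatum) (k : Type u) [Field k] (v w : D.Idx → k) : D.Idx → k :=
  adv (adR D k) v *ᵥ w

theorem br_add_left (u v w : D.Idx → k) : br D k (u + v) w = br D k u w + br D k v w := by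
  unfold br; rw [adv_add, Matrix.add_mulVec]

theorem br_sub_left (u v w : D.Idx → k) : br D k (u - v) w = br D k u w - br D k v w := by
  unfold br; rw [adv_sub, Matrix.sub_mulVec]

theorem br_smul_left (a : k) (v w : D.Idx → k) : br D k (a • v) w = a • br D k v w := by
  unfold br; rw [adv_smul, Matrix.smul_mulVec]

theorem br_add_right (u v w : D.Idx → k) : br D k u (v + w) = br D k u v + br D k u w := by
  unfold br; rw [Matrix.mulVec_add]

theorem br_sub_right (u v w : D.Idx → k) : br D k u (v - w) = br D k u v - br D k u w := by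
  unfold br; rw [Matrix.mulVec_sub]

theorem br_smul_right (a : k) (v w : D.Idx → k) : br D k v (a • w) = a • br D k v w := by
  unfold br; rw [Matrix.mulVec_smul]

theorem rho_apply (g : ↥(D.group k)) (v : D.Idx → k) : rho D k g v = ((g : GL D.Idx k) : Matrix D.Idx D.Idx k) *ᵥ v := rfl

theorem rho_br (hD : D ∈ [chevG2, chevB2, chevD4, chevF4, chevE6, chevE7, chevE8]) (g : ↥(D.group k))
    (v w : D.Idx → k) : rho D k g (br D k v w) = br D k (rho D k g v) (rho D k g w) := by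
  have h := group_mul_adv D hD k g.1 g.2 v
  simp only [rho_apply, br]
  rw [Matrix.mulVec_mulVec, h, ← Matrix.mulVec_mulVec]

theorem br_br (hD : D ∈ [chevG2, chevB2, chevD4, chevF4, chevE6, chevE7, chevE8]) (x y z : D.Idx → k) :
    br D k x (br D k y z) = br D k (br D k x y) z + br D k y (br D k x z) := by
  have h := jacR_all D hD k x y
  simp only [br]
  rw [h, Matrix.sub_mulVec, ← Matrix.mulVec_mulVec, ← Matrix.mulVec_mulVec]
  abel

/-! ### the decomposition `V = C_V(c) + [V, c]` -/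

theorem exists_dec {V : Type v} [AddCommGroup V] [Module k V] (f : End k V) {n : ℕ} (hn : (n : k) ≠ 0) (hf : f ^ n = 1)
    (v : V) : ∃ a b : V, f a = a ∧ v = a + (f b - b) := by
  set P : End k V := (n : k)⁻¹ • ∑ i ∈ Finset.range n, f ^ i with hP
  have h1 : (f - 1) * ∑ i ∈ Finset.range n, f ^ i = 0 := by rw [mul_geom_sum, hf, sub_self]
  refine ⟨P v, -((n : k)⁻¹ • ∑ i ∈ Finset.range n, (∑ j ∈ Finset.range i, f ^ j) v), ?_, ?_⟩
  · have h2 : (f - 1) * P = 0 := by rw [hP, mul_smul_comm, h1, smul_zero]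
    have h3 : ((f - 1) * P) v = 0 := by rw [h2]; rfl
    exact sub_eq_zero.1 h3
  · have h4 : ∀ i : ℕ, f ((∑ j ∈ Finset.range i, f ^ j) v) - (∑ j ∈ Finset.range i, f ^ j) v = (f ^ i) v - v := by
      intro i
      have h5 : (f - 1) * ∑ j ∈ Finset.range i, f ^ j = f ^ i - 1 := mul_geom_sum f i
      have h6 := congrArg (fun g : End k V => g v) h5
      exact h6
    have h7 : P v = (n : k)⁻¹ • ∑ i ∈ Finset.range n, (f ^ i) v := by
      rw [hP, LinearMap.smul_apply, LinearMap.sum_apply]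
    have h8 : f ((n : k)⁻¹ • ∑ i ∈ Finset.range n, (∑ j ∈ Finset.range i, f ^ j) v) -
        ((n : k)⁻¹ • ∑ i ∈ Finset.range n, (∑ j ∈ Finset.range i, f ^ j) v) = P v - v := by
      rw [map_smul, map_sum, ← smul_sub, ← Finset.sum_sub_distrib, Finset.sum_congr rfl (fun i _ => h4 i),
        Finset.sum_sub_distrib, smul_sub, ← h7, Finset.sum_const, Finset.card_range, ← Nat.cast_smul_eq_nsmul k n v,
        smul_smul, inv_mul_cancel₀ hn, one_smul]
    rw [map_neg, sub_neg_eq_add, neg_add_eq_sub, ← neg_sub, h8, neg_sub]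
    abel

/-! ### faithfulness on `[V, c]` -/

theorem faithful (L : Lac D) (h2 : (2 : k) ≠ 0) {c g : ↥(D.group k)} (hc : c ≠ 1) {n : ℕ} (hn : (n : k) ≠ 0)
    (hcn : c ^ n = 1) (hg : ∀ v, rho D k g (rho D k c v - v) = rho D k c v - v) : g = 1 := by
  have hD := L.inList
  set f := rho D k c with hf
  have hfn : f ^ n = 1 := by rw [hf, ← map_pow, hcn, map_one]
  let W : Set (D.Idx → k) := {w | ∃ v, w = f v - v}
  let I : Submodule k (D.Idx → k) := Submodule.span k (W ∪ {x | ∃ w ∈ W, ∃ w' ∈ W, x = br D k w w'})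
  have hW : ∀ w ∈ W, w ∈ I := fun w hw => Submodule.subset_span (Or.inl hw)
  have hWW : ∀ w ∈ W, ∀ w' ∈ W, br D k w w' ∈ I := fun w hw w' hw' => Submodule.subset_span (Or.inr ⟨w, hw, w', hw', rfl⟩)
  have hfb : ∀ v w, f (br D k v w) = br D k (f v) (f w) := rho_br hD c
  -- `[a, W] ⊆ W` and `[W, a] ⊆ W` for fixed `a`
  have h1 : ∀ a, f a = a → ∀ w ∈ W, br D k a w ∈ W := by
    rintro a ha _ ⟨v, rfl⟩
    exact ⟨br D k a v, by rw [hfb, ha, br_sub_right]⟩
  have h1' : ∀ a, f a = a → ∀ w ∈ W, br D k w a ∈ W := by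
    rintro a ha _ ⟨v, rfl⟩
    exact ⟨br D k v a, by rw [hfb, ha, br_sub_left]⟩
  have hI : ∀ x, ∀ w ∈ I, adv (adR D k) x *ᵥ w ∈ I := by
    intro x w hw
    show br D k x w ∈ I
    obtain ⟨a, b, ha, hx⟩ := exists_dec f hn hfn x
    have hb : f b - b ∈ W := ⟨b, rfl⟩
    induction hw using Submodule.span_induction with
    | mem y hy =>
      rw [hx, br_add_left]
      rcases hy with hy | ⟨w, hw, w', hw', rfl⟩
      · exact I.add_mem (hW _ (h1 a ha y hy)) (hWW _ hb _ hy)
      · refine I.add_mem ?_ ?_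
        · rw [br_br hD]
          exact I.add_mem (hWW _ (h1 a ha w hw) _ hw') (hWW _ hw _ (h1 a ha w' hw'))
        · obtain ⟨a', b', ha', hx'⟩ := exists_dec f hn hfn (br D k w w')
          rw [hx', br_add_right]
          exact I.add_mem (hW _ (h1' a' ha' _ hb)) (hWW _ hb _ ⟨b', rfl⟩)
    | zero => unfold br; rw [Matrix.mulVec_zero]; exact I.zero_mem
    | add y z _ _ hy hz => rw [br_add_right]; exact I.add_mem hy hz
    | smul a y _ hy => rw [br_smul_right]; exact I.smul_mem a hy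
  have htop : I = ⊤ := eq_top L h2 hI c.2 (fun h => hc (Subtype.ext h)) fun w => hW _ ⟨w, rfl⟩
  have hgI : ∀ w ∈ I, rho D k g w = w := by
    intro w hw
    have hgW : ∀ w ∈ W, rho D k g w = w := by rintro _ ⟨v, rfl⟩; exact hg v
    induction hw using Submodule.span_induction with
    | mem y hy =>
      rcases hy with hy | ⟨w, hw, w', hw', rfl⟩
      · exact hgW y hy
      · rw [rho_br hD, hgW w hw, hgW w' hw']
    | zero => exact map_zero _
    | add y z _ _ hy hz => rw [map_add, hy, hz]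
    | smul a y _ hy => rw [map_smul, hy]
  apply Subtype.ext
  apply Units.ext
  refine Matrix.toLin'.injective ?_
  refine LinearMap.ext fun w => ?_
  show rho D k g w = _
  rw [hgI w (by rw [htop]; trivial)]
  show w = Matrix.toLin' (1 : Matrix D.Idx D.Idx k) w
  rw [Matrix.toLin'_one]; rfl

/-! ### elements centralising a long root subgroup -/

/-- the long root elements are quadratic in `t` -/
theorem x_eq_three (L : Lac D) {r : ℕ} (hr : r < D.nroots) (t : k) : D.x k r t = 1 + t • adK D k r +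
    t ^ 2 • (coefE D r 2).map (Int.castRingHom k) := by
  obtain ⟨m, hm⟩ := exists_degree_bound D r
  have hm' : ∀ i j, (xR D (Polynomial ℤ) r Polynomial.X i j).natDegree < m + 3 := fun i j => (hm i j).trans_le (by omega)
  rw [x_eq_xR, xR_eq_sum D r t (m + 3) hm', add_comm m 3, Finset.sum_range_add]
  have h1 : ∑ x ∈ Finset.range m, t ^ (3 + x) • (coefE D r (3 + x)).map (Int.castRingHom k) = 0 := by
    refine Finset.sum_eq_zero fun x _ => ?_
    rw [coefE_three L hr (by omega)]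
    have : (0 : Matrix D.Idx D.Idx ℤ).map (Int.castRingHom k) = 0 := Matrix.map_zero _ (map_zero _)
    rw [this, smul_zero]
  rw [h1, add_zero, Finset.sum_range_succ, Finset.sum_range_succ, Finset.sum_range_one, coefE_zero, pow_zero, one_smul,
    pow_one]
  have h3 : (1 : Matrix D.Idx D.Idx ℤ).map (Int.castRingHom k) = 1 := Matrix.map_one _ (map_zero _) (map_one _)
  rw [h3]
  rfl

theorem comm_adK (L : Lac D) (h2 : (2 : k) ≠ 0) {r : ℕ} (hr : r < D.nroots) {C : Matrix D.Idx D.Idx k}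
    (h : ∀ t : k, C * D.x k r t = D.x k r t * C) : C * adK D k r = adK D k r * C := by
  have h1 := h 1
  have h3 := h (-1)
  rw [x_eq_three L hr] at h1 h3
  have e : (2 : k) • (C * adK D k r) = (2 : k) • (adK D k r * C) := by
    have h4 : C * (1 + (1 : k) • adK D k r + (1 : k) ^ 2 • (coefE D r 2).map (Int.castRingHom k)) -
        C * (1 + (-1 : k) • adK D k r + (-1 : k) ^ 2 • (coefE D r 2).map (Int.castRingHom k)) =
        (1 + (1 : k) • adK D k r + (1 : k) ^ 2 • (coefE D r 2).map (Int.castRingHom k)) * C -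
        (1 + (-1 : k) • adK D k r + (-1 : k) ^ 2 • (coefE D r 2).map (Int.castRingHom k)) * C := by rw [h1, h3]
    rw [← mul_sub, ← sub_mul] at h4
    have h5 : (1 + (1 : k) • adK D k r + (1 : k) ^ 2 • (coefE D r 2).map (Int.castRingHom k)) -
        (1 + (-1 : k) • adK D k r + (-1 : k) ^ 2 • (coefE D r 2).map (Int.castRingHom k)) = (2 : k) • adK D k r := by
      rw [show ((-1 : k)) ^ 2 = 1 by ring, show ((1 : k)) ^ 2 = 1 by ring, two_smul]
      simp only [one_smul, neg_smul]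
      abel
    rw [h5, mul_smul_comm, smul_mul_assoc] at h4
    exact h4
  have h6 := congrArg (fun X => (2 : k)⁻¹ • X) e
  simp only [smul_smul, inv_mul_cancel₀ h2, one_smul] at h6
  exact h6

theorem adK_ne_zero (L : Lac D) (h2 : (2 : k) ≠ 0) {r : ℕ} (hr : r < D.nroots) : adK D k r ≠ 0 := by
  intro h
  have hadd : ∀ (K : Type) [Field K] [CharZero K] (t u : K), xR D K r t * xR D K r u = xR D K r (t + u) :=
    fun K _ _ t u => xR_add_field D L.inList r K t u
  have h3 := adK_pow (K := k) D r hadd 2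
  rw [h, zero_pow two_ne_zero, show Nat.factorial 2 = 2 from rfl, two_nsmul, ← two_smul k] at h3
  have h4 : (coefE D r 2).map (Int.castRingHom k) = 0 := by
    have h6 := congrArg (fun X => (2 : k)⁻¹ • X) h3
    simp only [smul_smul, inv_mul_cancel₀ h2, one_smul, smul_zero] at h6
    exact h6.symm
  have h5 : ∀ t : k, D.x k r t = 1 := fun t => by rw [x_eq_three L hr, h, h4, smul_zero, smul_zero, add_zero, add_zero]
  have h7 : xG L.inList (F := k) r 1 = xG L.inList r 0 := by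
    apply Units.ext
    rw [coe_xG, coe_xG, h5, h5]
  exact one_ne_zero (xG_injective L.inList hr h7)

/-- the basis vector `e_r` -/
noncomputable def ev (k : Type u) [Field k] {r : ℕ} (hr : r < D.nroots) : D.Idx → k := Pi.single (Sum.inr ⟨r, hr⟩) 1

theorem fix_vec (L : Lac D) (h2 : (2 : k) ≠ 0) {r : ℕ} (hr : r < D.nroots) {c : ↥(D.group k)}
    (h : ∀ t : k, ((c : GL D.Idx k) : Matrix D.Idx D.Idx k) * D.x k r t = D.x k r t * ((c : GL D.Idx k) : Matrix D.Idx D.Idx k))
    {d : D.Idx → k} (hd : ((c : GL D.Idx k) : Matrix D.Idx D.Idx k) * Matrix.diagonal d =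
      Matrix.diagonal d * ((c : GL D.Idx k) : Matrix D.Idx D.Idx k))
    (hne : ∀ j, j ≠ Sum.inr ⟨r, hr⟩ → d j ≠ d (Sum.inr ⟨r, hr⟩)) : rho D k c (ev k hr) = ev k hr := by
  set C := ((c : GL D.Idx k) : Matrix D.Idx D.Idx k) with hC
  have h1 : ∀ j, j ≠ Sum.inr ⟨r, hr⟩ → C j (Sum.inr ⟨r, hr⟩) = 0 := by
    intro j hj
    have h3 := congrFun (congrFun hd j) (Sum.inr ⟨r, hr⟩)
    rw [Matrix.mul_diagonal, Matrix.diagonal_mul] at h3
    have h4 : C j (Sum.inr ⟨r, hr⟩) * (d (Sum.inr ⟨r, hr⟩) - d j) = 0 := by linear_combination h3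
    rcases mul_eq_zero.1 h4 with h5 | h5
    · exact h5
    · exact absurd (sub_eq_zero.1 h5).symm (hne j hj)
  set lam := C (Sum.inr ⟨r, hr⟩) (Sum.inr ⟨r, hr⟩) with hlam
  have h3 : C *ᵥ (ev k hr) = lam • ev k hr := by
    ext j
    rw [ev, Matrix.mulVec_single_one, Pi.smul_apply, smul_eq_mul]
    by_cases hj : j = Sum.inr ⟨r, hr⟩
    · subst hj
      rw [Pi.single_eq_same, mul_one]
      rfl
    · rw [Pi.single_eq_of_ne hj, mul_zero]
      exact h1 j hj
  have h4 := group_mul_adv D L.inList k c.1 c.2 (ev k hr)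
  rw [← hC, h3, adv_smul] at h4
  have h5 : adv (adR D k) (ev k hr) = adK D k r := by
    rw [ev, adv_single_one]; rfl
  rw [h5, comm_adK L h2 hr h, smul_mul_assoc] at h4
  have h6 : adK D k r = lam • adK D k r := by
    have h7 := congrArg (fun X => X * ((c⁻¹ : ↥(D.group k)) : GL D.Idx k).1) h4
    simp only [smul_mul_assoc, mul_assoc] at h7
    have h8 : C * ((c⁻¹ : ↥(D.group k)) : GL D.Idx k).1 = 1 := by
      rw [hC]
      show ((c : GL D.Idx k) : Matrix D.Idx D.Idx k) * (((c : GL D.Idx k)⁻¹ : GL D.Idx k) : Matrix D.Idx D.Idx k) = 1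
      rw [← Units.val_mul, mul_inv_cancel, Units.val_one]
    rw [h8, mul_one] at h7
    exact h7
  have h7 : (1 - lam) • adK D k r = 0 := by rw [sub_smul, one_smul, ← h6, sub_self]
  rcases smul_eq_zero.1 h7 with h8 | h8
  · rw [rho_apply, ← hC, h3, (sub_eq_zero.1 h8).symm, one_smul]
  · exact absurd h8 (adK_ne_zero L h2 hr)

/-! ### long roots -/

/-- the long roots: the pairings with the other roots are `0, ±1` -/
def lng (D : ChevalleyDatum) (s : ℕ) : Bool :=
  decide (s < D.nroots) && decide (D.neg s < D.nroots) && decide (D.neg s ≠ s) && ((List.range D.nroots).all fun r =>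
    decide (r = s) || decide (r = D.neg s) || decide (HMatDiagAll.expo D s r = 0) ||
      decide (HMatDiagAll.expo D s r = 1) || decide (HMatDiagAll.expo D s r = -1))

theorem lng_spec {s : ℕ} (h : lng D s = true) : s < D.nroots ∧ D.neg s < D.nroots ∧ D.neg s ≠ s ∧ ∀ r < D.nroots,
    r = s ∨ r = D.neg s ∨ HMatDiagAll.expo D s r = 0 ∨ HMatDiagAll.expo D s r = 1 ∨ HMatDiagAll.expo D s r = -1 := by
  unfold lng at h
  rw [Bool.and_eq_true, Bool.and_eq_true, Bool.and_eq_true, decide_eq_true_iff, decide_eq_true_iff,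
    decide_eq_true_iff] at h
  obtain ⟨⟨⟨h1, h2⟩, h3⟩, h4⟩ := h
  refine ⟨h1, h2, h3, fun r hr => ?_⟩
  have h5 := (List.all_eq_true.1 h4) r (List.mem_range.2 hr)
  rw [Bool.or_eq_true, Bool.or_eq_true, Bool.or_eq_true, Bool.or_eq_true, decide_eq_true_iff, decide_eq_true_iff,
    decide_eq_true_iff, decide_eq_true_iff, decide_eq_true_iff] at h5
  rcases h5 with (((h5 | h5) | h5) | h5) | h5
  · exact Or.inl h5
  · exact Or.inr (Or.inl h5)
  · exact Or.inr (Or.inr (Or.inl h5))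
  · exact Or.inr (Or.inr (Or.inr (Or.inl h5)))
  · exact Or.inr (Or.inr (Or.inr (Or.inr h5)))

theorem expo_self (D : ChevalleyDatum) (s : ℕ) : HMatDiagAll.expo D s s = 2 := by
  unfold HMatDiagAll.expo; rw [if_pos rfl]

theorem expo_neg {s : ℕ} (h : D.neg s ≠ s) : HMatDiagAll.expo D s (D.neg s) = -2 := by
  unfold HMatDiagAll.expo; rw [if_neg h, if_pos rfl]

theorem zne {ζ : k} (h0 : ζ ≠ 0) (h12 : ζ ^ 12 ≠ 1) {a b : ℤ} (hab : a ≠ b) (h4 : |a - b| ≤ 4) : ζ ^ a ≠ ζ ^ b := by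
  intro h
  have h1 : ζ ^ (a - b) = 1 := by rw [zpow_sub₀ h0, h, div_self (zpow_ne_zero _ h0)]
  have h3 : (a - b) ∣ 12 := by
    have h5 := abs_le.1 h4
    have h6 : a - b ≠ 0 := sub_ne_zero.2 hab
    obtain ⟨c, hc⟩ : ∃ c, c = a - b := ⟨_, rfl⟩
    rw [← hc] at h5 h6 ⊢
    have h7 : c = -4 ∨ c = -3 ∨ c = -2 ∨ c = -1 ∨ c = 1 ∨ c = 2 ∨ c = 3 ∨ c = 4 := by omega
    rcases h7 with rfl | rfl | rfl | rfl | rfl | rfl | rfl | rfl <;> decide
  obtain ⟨m, hm⟩ := h3
  apply h12
  have h5 : ζ ^ (12 : ℤ) = 1 := by rw [hm, _root_.zpow_mul, h1, _root_.one_zpow]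
  exact_mod_cast h5

theorem exists_z12 [Infinite k] : ∃ ζ : k, ζ ≠ 0 ∧ ζ ^ 12 ≠ 1 := by
  classical
  obtain ⟨ζ, hζ⟩ := Infinite.exists_notMem_finset (insert (0 : k) (Polynomial.nthRoots 12 (1 : k)).toFinset)
  rw [Finset.mem_insert, not_or, Multiset.mem_toFinset, Polynomial.mem_nthRoots (by norm_num)] at hζ
  exact ⟨ζ, hζ.1, hζ.2⟩

variable {l : ℕ} {M : CoxeterMatrix (Fin l)} (hp : IsType D l M) {s : ℕ} (hs : s < D.nroots)

include hs in
/-- an element centralising `L_s` fixes `e_s` and `e_{-s}` -/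
theorem fix_e [Infinite k] (L : Lac D) (h2 : (2 : k) ≠ 0) (hl : lng D s = true) (hn : D.neg s < D.nroots)
    {c : ↥(D.group k)} (hc : c ∈ Subgroup.centralizer ((ph hp k hs).range : Set ↥(D.group k))) :
    rho D k c (ev k hs) = ev k hs ∧ rho D k c (ev k hn) = ev k hn := by
  obtain ⟨-, -, hne, hall⟩ := lng_spec hl
  obtain ⟨ζ, hζ0, hζ⟩ := exists_z12 (k := k)
  have hcomm : ∀ A : SL k, c * ph hp k hs A = ph hp k hs A * c := fun A =>
    ((Subgroup.mem_centralizer_iff.1 hc) _ ⟨A, rfl⟩).symm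
  have hmat : ∀ {x : ↥(D.group k)}, c * x = x * c → ((c : GL D.Idx k) : Matrix D.Idx D.Idx k) * ((x : GL D.Idx k) : Matrix D.Idx D.Idx k)
      = ((x : GL D.Idx k) : Matrix D.Idx D.Idx k) * ((c : GL D.Idx k) : Matrix D.Idx D.Idx k) := by
    intro x hx
    have h1 := congrArg (fun y : ↥(D.group k) => ((y : GL D.Idx k) : Matrix D.Idx D.Idx k)) hx
    exact h1
  have hdg := hmat (hcomm (hS ζ))
  rw [coe_ph_hS hp hs hζ0] at hdg
  refine ⟨fix_vec L h2 hs (fun t => ?_) hdg ?_, fix_vec L h2 hn (fun t => ?_) hdg ?_⟩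
  · have h1 := hcomm (up t)
    rw [ph_up] at h1
    exact hmat h1
  · rintro (j | r) hj
    · show (1 : k) ≠ ζ ^ HMatDiagAll.expo D s s
      rw [expo_self, ← zpow_zero ζ]
      exact zne hζ0 hζ (by norm_num) (by norm_num)
    · show ζ ^ HMatDiagAll.expo D s r.val ≠ ζ ^ HMatDiagAll.expo D s s
      rw [expo_self]
      rcases hall r.val r.isLt with h | h | h | h | h
      · exact absurd (congrArg Sum.inr (Fin.ext h)) hj
      · rw [h, expo_neg hne]; exact zne hζ0 hζ (by norm_num) (by norm_num)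
      · rw [h]; exact zne hζ0 hζ (by norm_num) (by norm_num)
      · rw [h]; exact zne hζ0 hζ (by norm_num) (by norm_num)
      · rw [h]; exact zne hζ0 hζ (by norm_num) (by norm_num)
  · have h1 := hcomm (lo t)
    rw [ph_lo] at h1
    exact hmat h1
  · rintro (j | r) hj
    · show (1 : k) ≠ ζ ^ HMatDiagAll.expo D s (D.neg s)
      rw [expo_neg hne, ← zpow_zero ζ]
      exact zne hζ0 hζ (by norm_num) (by norm_num)
    · show ζ ^ HMatDiagAll.expo D s r.val ≠ ζ ^ HMatDiagAll.expo D s (D.neg s)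
      rw [expo_neg hne]
      rcases hall r.val r.isLt with h | h | h | h | h
      · rw [h, expo_self]; exact zne hζ0 hζ (by norm_num) (by norm_num)
      · exact absurd (congrArg Sum.inr (Fin.ext h)) hj
      · rw [h]; exact zne hζ0 hζ (by norm_num) (by norm_num)
      · rw [h]; exact zne hζ0 hζ (by norm_num) (by norm_num)
      · rw [h]; exact zne hζ0 hζ (by norm_num) (by norm_num)

/-- the endomorphism `(t - 1) (t ^ 2 - t + 1)` -/
noncomputable def mm (t : ↥(D.group k)) : End k (D.Idx → k) :=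
  (rho D k t - 1) * (rho D k t * rho D k t - rho D k t + 1)

theorem conj_poly {R : Type*} [Ring R] {a b t : R} (h1 : a * b = 1) (h2 : b * a = 1) :
    (a * t * b - 1) * (a * t * b * (a * t * b) - a * t * b + 1) = a * ((t - 1) * (t * t - t + 1)) * b := by
  have e1 : a * t * b - 1 = a * (t - 1) * b := by rw [mul_sub, sub_mul, mul_one, h1]
  have e2 : a * t * b * (a * t * b) = a * (t * t) * b := by
    calc a * t * b * (a * t * b) = a * t * (b * a) * t * b := by noncomm_ring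
      _ = a * (t * t) * b := by rw [h2]; noncomm_ring
  have e3 : a * t * b * (a * t * b) - a * t * b + 1 = a * (t * t - t + 1) * b := by
    rw [e2, mul_add, mul_sub, add_mul, sub_mul, mul_one, h1]
  rw [e3, e1]
  calc a * (t - 1) * b * (a * (t * t - t + 1) * b) = a * (t - 1) * (b * a) * (t * t - t + 1) * b := by noncomm_ring
    _ = _ := by rw [h2]; noncomm_ring

theorem mm_conj (g t : ↥(D.group k)) : mm (g * t * g⁻¹) = rho D k g * mm t * rho D k g⁻¹ := by
  have h1 : rho D k (g * t * g⁻¹) = rho D k g * rho D k t * rho D k g⁻¹ := by rw [map_mul, map_mul]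
  have h3 : rho D k g⁻¹ * rho D k g = 1 := by rw [← map_mul, inv_mul_cancel, map_one]
  have h4 : rho D k g * rho D k g⁻¹ = 1 := by rw [← map_mul, mul_inv_cancel, map_one]
  unfold mm
  rw [h1, conj_poly h4 h3]

/-- the case of a diagonal element -/
theorem six_diag [Infinite k] (L : Lac D) (h2 : (2 : k) ≠ 0) (hl : lng D s = true)
    {c : ↥(D.group k)} (hc : c ∈ Subgroup.centralizer ((ph hp k hs).range : Set ↥(D.group k)))
    {ζ : k} (hζ : ζ * ζ - ζ + 1 = 0) (v : D.Idx → k) :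
    rho D k c (mm (ph hp k hs (hS ζ)) v) = mm (ph hp k hs (hS ζ)) v := by
  obtain ⟨-, hn, hne, hall⟩ := lng_spec hl
  have hζ0 : ζ ≠ 0 := by
    rintro rfl
    simp at hζ
  obtain ⟨h3, h4⟩ := fix_e hp hs L h2 hl hn hc
  set d : D.Idx → k := Sum.elim (fun _ => (1 : k)) (fun r : Fin D.nroots => ζ ^ HMatDiagAll.expo D s r.val) with hd
  have hrho : rho D k (ph hp k hs (hS ζ)) = Matrix.toLin' (Matrix.diagonal d) := by
    rw [rho_eq, coe_ph_hS hp hs hζ0]
  have hdv : ∀ w : D.Idx → k, Matrix.toLin' (Matrix.diagonal d) w = fun j => d j * w j := by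
    intro w
    ext j
    rw [Matrix.toLin'_apply, Matrix.mulVec_diagonal]
  have hM : mm (ph hp k hs (hS ζ)) v = fun j => (d j - 1) * (d j * d j - d j + 1) * v j := by
    have e1 : ∀ w : D.Idx → k, rho D k (ph hp k hs (hS ζ)) w = fun j => d j * w j := fun w => by rw [hrho]; exact hdv w
    show rho D k (ph hp k hs (hS ζ)) ((rho D k (ph hp k hs (hS ζ)) (rho D k (ph hp k hs (hS ζ)) v) -
      rho D k (ph hp k hs (hS ζ)) v + v)) - ((rho D k (ph hp k hs (hS ζ)) (rho D k (ph hp k hs (hS ζ)) v) -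
      rho D k (ph hp k hs (hS ζ)) v + v)) = _
    simp only [e1]
    ext j
    simp only [Pi.sub_apply, Pi.add_apply]
    ring
  have hinv : ζ⁻¹ * ζ⁻¹ - ζ⁻¹ + 1 = 0 := by
    field_simp
    linear_combination hζ
  have hzero : ∀ j, j ≠ Sum.inr ⟨s, hs⟩ → j ≠ Sum.inr ⟨D.neg s, hn⟩ → (d j - 1) * (d j * d j - d j + 1) = 0 := by
    rintro (j | r) h5 h6
    · show ((1 : k) - 1) * _ = 0
      rw [sub_self, zero_mul]
    · show (ζ ^ HMatDiagAll.expo D s r.val - 1) * (ζ ^ HMatDiagAll.expo D s r.val * ζ ^ HMatDiagAll.expo D s r.val -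
        ζ ^ HMatDiagAll.expo D s r.val + 1) = 0
      rcases hall r.val r.isLt with h | h | h | h | h
      · exact absurd (congrArg Sum.inr (Fin.ext h)) h5
      · exact absurd (congrArg Sum.inr (Fin.ext h)) h6
      · rw [h, zpow_zero, sub_self, zero_mul]
      · rw [h, zpow_one, hζ, mul_zero]
      · rw [h, _root_.zpow_neg_one, hinv, mul_zero]
  have hsum : mm (ph hp k hs (hS ζ)) v = ((d (Sum.inr ⟨s, hs⟩) - 1) * (d (Sum.inr ⟨s, hs⟩) * d (Sum.inr ⟨s, hs⟩) -
      d (Sum.inr ⟨s, hs⟩) + 1) * v (Sum.inr ⟨s, hs⟩)) • ev k hs +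
      ((d (Sum.inr ⟨D.neg s, hn⟩) - 1) * (d (Sum.inr ⟨D.neg s, hn⟩) * d (Sum.inr ⟨D.neg s, hn⟩) -
      d (Sum.inr ⟨D.neg s, hn⟩) + 1) * v (Sum.inr ⟨D.neg s, hn⟩)) • ev k hn := by
    rw [hM]
    have hne' : (Sum.inr ⟨s, hs⟩ : D.Idx) ≠ Sum.inr ⟨D.neg s, hn⟩ := by
      intro h
      have h7 := Sum.inr.inj h
      exact hne (congrArg Fin.val h7).symm
    ext j
    rw [Pi.add_apply, Pi.smul_apply, Pi.smul_apply, smul_eq_mul, smul_eq_mul]
    by_cases hj1 : j = Sum.inr ⟨s, hs⟩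
    · subst hj1
      rw [ev, ev, Pi.single_eq_same, Pi.single_eq_of_ne hne', mul_one, mul_zero, add_zero]
    · by_cases hj2 : j = Sum.inr ⟨D.neg s, hn⟩
      · subst hj2
        rw [ev, ev, Pi.single_eq_same, Pi.single_eq_of_ne hj1, mul_one, mul_zero, zero_add]
      · rw [ev, ev, Pi.single_eq_of_ne hj1, Pi.single_eq_of_ne hj2, mul_zero, mul_zero, add_zero, hzero j hj1 hj2,
          zero_mul]
  rw [hsum, map_add, map_smul, map_smul, h3, h4]

/-- the general case -/
theorem six [Infinite k] (L : Lac D) (h2 : (2 : k) ≠ 0) (hl : lng D s = true)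
    {c g : ↥(D.group k)} (hc : g⁻¹ * c * g ∈ Subgroup.centralizer ((ph hp k hs).range : Set ↥(D.group k)))
    {A P : SL k} {ζ : k} (hζ : ζ * ζ - ζ + 1 = 0) (hA : A = P * hS ζ * P⁻¹) (v : D.Idx → k) :
    rho D k c (mm (g * ph hp k hs A * g⁻¹) v) = mm (g * ph hp k hs A * g⁻¹) v := by
  set y := g * ph hp k hs P with hy
  have e1 : g * ph hp k hs A * g⁻¹ = y * ph hp k hs (hS ζ) * y⁻¹ := by
    rw [hA, hy, map_mul, map_mul, map_inv]; group
  have e2 : y⁻¹ * c * y = g⁻¹ * c * g := by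
    have h1 := (Subgroup.mem_centralizer_iff.1 hc) (ph hp k hs P) ⟨P, rfl⟩
    rw [hy]
    calc (g * ph hp k hs P)⁻¹ * c * (g * ph hp k hs P) = (ph hp k hs P)⁻¹ * ((g⁻¹ * c * g) * ph hp k hs P) := by group
      _ = (ph hp k hs P)⁻¹ * (ph hp k hs P * (g⁻¹ * c * g)) := by rw [h1]
      _ = _ := by group
  have h3 := six_diag hp hs L h2 hl hc hζ (rho D k y⁻¹ v)
  rw [← e2] at h3
  rw [e1, mm_conj]
  show rho D k c (rho D k y (mm (ph hp k hs (hS ζ)) (rho D k y⁻¹ v))) = rho D k y (mm (ph hp k hs (hS ζ)) (rho D k y⁻¹ v))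
  have h4 : rho D k c (rho D k y (mm (ph hp k hs (hS ζ)) (rho D k y⁻¹ v))) =
      rho D k y (rho D k (y⁻¹ * c * y) (mm (ph hp k hs (hS ζ)) (rho D k y⁻¹ v))) := by
    rw [← Module.End.mul_apply, ← Module.End.mul_apply (rho D k y), ← map_mul, ← map_mul]
    congr 2
    group
  rw [h4, h3]

end Cfsg.Agent.H971.RV
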