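import Cfsg.Agent.H971.RV.RowsA

/-!
# TEAM RV, row R5 for `F₄, E₇, E₈`: the centraliser of the frame in the torus (helper971)
-/

set_option autoImplicit false
set_option linter.unusedSectionVars false

namespace Cfsg.Agent.H971.RV

open CoxeterSystem Cfsg Cfsg.Lie Cfsg.Lie.ChevalleyDatum
open Cfsg.Agent.ChevalleyStructure Cfsg.Agent.ChevalleyStructure.Elts Cfsg.Agent.ChevalleyStructure.CoxeterGeom
  Cfsg.Agent.ChevalleyStructure.CoxeterGeomTypes Cfsg.Agent.ChevalleyStructure.NPerm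
open Cfsg.Agent.Tits.Roots Cfsg.Agent.Tits.Core Cfsg.Agent.Nodes Cfsg.Agent.Nodes.Reps Cfsg.Agent.Nodes.BNOf
  Cfsg.Agent.Nodes.RGDChev Cfsg.Agent.Nodes.Bruhat Cfsg.Agent.Nodes.NormalForm
open Cfsg.Agent.KFacts.RgdField Cfsg.Agent.KFacts.RgdChevCoord
open Cfsg.Agent.BpExc Cfsg.Agent.BpExc.TorCent Cfsg.Agent.BpExc.TorChev Cfsg.Agent.BpExc.Tow
  Cfsg.Agent.BpExc.TowChev Cfsg.Agent.BpExc.Fr Cfsg.Agent.BpExc.Pair Cfsg.Agent.BpExc.LangFr Cfsg.Agent.GpExc.Field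
  Cfsg.Agent.BpExc.TorAll
open Cfsg.Agent.H469.Exc Cfsg.Agent.H469.Exc.SigFr
open Cfsg.Agent.Nodes.RGDFoldSL
open Cfsg.Agent.H167.EX Cfsg.Agent.H129.TorusChar

universe u v w

variable {D : ChevalleyDatum} {l : ℕ} {M : CoxeterMatrix (Fin l)} (hp : IsType D l M) {k : Type u} [Field k] {p : ℕ}
  {m : ℕ} {s : Fin m → ℕ} (hs : ∀ i, s i < D.nroots)

include hs in
theorem tor_of {c : Fin m → Fin l → ℤ} {N : ℕ}
    (hB : ∀ j : Fin l, (N : ℤ) • (sr j : Fin l → ℤ) = ∑ i, c i j • vec D l (s i)) {n : ↥(D.group k)} (hn : n ∈ TT D k)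
    (h : ∀ i, ch hp (vec D l (s i)) n = 1) : n ^ N = 1 := by
  refine cX_inj hp (pow_mem hn N) (one_mem _) fun j => ?_
  have hMC := isMC_cX hp hn
  rw [cX_one, cX_pow hp hn, ← zpow_natCast, ← hMC.zsmul, hB j, hMC.sum_smul]
  refine Finset.prod_eq_one fun i _ => ?_
  rw [cX_vec hp hn (hs i), h i, one_zpow]

/-- the frames -/
def sF4 : Fin 4 → ℕ := ![0, 6, 17, 22]
def sE6 : Fin 4 → ℕ := ![0, 11, 27, 32]
def sE7 : Fin 7 → ℕ := ![0, 33, 38, 47, 52, 59, 62]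
def sE8 : Fin 8 → ℕ := ![0, 13, 80, 87, 98, 104, 113, 118]

theorem latF4 : ∀ j : Fin 4, ((2 : ℕ) : ℤ) • (sr j : Fin 4 → ℤ) =
    ∑ i, HMatDiagAll.expo chevF4 (sF4 i) (chevF4.simple j) • vec chevF4 4 (sF4 i) := by decide +kernel

theorem latE7 : ∀ j : Fin 7, ((2 : ℕ) : ℤ) • (sr j : Fin 7 → ℤ) =
    ∑ i, HMatDiagAll.expo chevE7 (sE7 i) (chevE7.simple j) • vec chevE7 7 (sE7 i) := by decide +kernel

theorem latE8 : ∀ j : Fin 8, ((2 : ℕ) : ℤ) • (sr j : Fin 8 → ℤ) =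
    ∑ i, HMatDiagAll.expo chevE8 (sE8 i) (chevE8.simple j) • vec chevE8 8 (sE8 i) := by decide +kernel

theorem glF4 : ∀ r < chevF4.nroots, gl chevF4 (List.ofFn sF4) r ≠ 0 := by decide +kernel

theorem glE6 : ∀ r < chevE6.nroots, gl chevE6 (List.ofFn sE6) r ≠ 0 := by decide +kernel

theorem glE7 : ∀ r < chevE7.nroots, gl chevE7 (List.ofFn sE7) r ≠ 0 := by decide +kernel

theorem glE8 : ∀ r < chevE8.nroots, gl chevE8 (List.ofFn sE8) r ≠ 0 := by decide +kernel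

end Cfsg.Agent.H971.RV
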