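import Cfsg.Agent.H971.RV.Row
import Cfsg.Agent.H836.RV.SLThree
import Cfsg.Agent.H795.Tw
import Cfsg.Agent.BpExc.RowsUntw

/-!
# TEAM RV, row R5 for `F₄, E₆, ²E₆, E₇, E₈`: the subgroups `SL₂(3)` of `S` (helper971)
-/

set_option autoImplicit false
set_option linter.unusedSectionVars false

namespace Cfsg.Agent.H971.RV

open CoxeterSystem Cfsg Cfsg.Lie Cfsg.Lie.ChevalleyDatum
open Cfsg.Agent.ChevalleyStructure Cfsg.Agent.ChevalleyStructure.Elts Cfsg.Agent.ChevalleyStructure.CoxeterGeom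
  Cfsg.Agent.ChevalleyStructure.CoxeterGeomTypes Cfsg.Agent.ChevalleyStructure.NPerm
open Cfsg.Agent.Tits.Roots Cfsg.Agent.Tits.Core Cfsg.Agent.Nodes Cfsg.Agent.Nodes.Reps Cfsg.Agent.Nodes.BNOf
  Cfsg.Agent.Nodes.RGDChev Cfsg.Agent.Nodes.Bruhat Cfsg.Agent.Nodes.NormalForm
open Cfsg.Agent.KFacts.RgdField Cfsg.Agent.KFacts.RgdChevCoord
open Cfsg.Agent.BpExc Cfsg.Agent.BpExc.TorCent Cfsg.Agent.BpExc.TorChev Cfsg.Agent.BpExc.Tow
  Cfsg.Agent.BpExc.TowChev Cfsg.Agent.BpExc.Fr Cfsg.Agent.BpExc.Pair Cfsg.Agent.BpExc.LangFr Cfsg.Agent.GpExc.Field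
  Cfsg.Agent.BpExc.TorAll
open Cfsg.Agent.H469.Exc Cfsg.Agent.H469.Exc.SigFr
open Cfsg.Agent.BpExc.FamUntw (phi)
open Cfsg.Agent.BpExc.FamInst (fld_eq_emb)
open Cfsg.Agent.BpExc.FamField (frb frb_apply)
open Cfsg.Agent.Nodes.RGDFoldSL
open Cfsg.Agent.ChevalleyStructure.SL2Hom (up lo mem_closure_SL2)
open Cfsg.Agent.H167.EX Cfsg.Agent.H512.LinFour.IdealF Cfsg.Agent.H720.TwFr
open Module

universe u v

variable {D : ChevalleyDatum} {l : ℕ} {M : CoxeterMatrix (Fin l)} (hp : IsType D l M) {k : Type u} [Field k] (p : ℕ)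
  [Fact p.Prime] [CharP k p] {s : ℕ} (hs : s < D.nroots)

theorem up_pow (t : k) (n : ℕ) : (up t : SL k) ^ n = up (n * t) := by
  induction n with
  | zero =>
    rw [pow_zero]
    apply Subtype.ext
    ext i j
    fin_cases i <;> fin_cases j <;> simp [up]
  | succ n ih =>
    rw [pow_succ, ih]
    apply Subtype.ext
    rw [Matrix.SpecialLinearGroup.coe_mul]
    show (up (n * t)).1 * (up t).1 = (up (((n + 1 : ℕ) : k) * t)).1
    ext i j
    fin_cases i <;> fin_cases j <;> simp [up, Matrix.mul_apply, Fin.sum_univ_two]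
    ring

theorem lo_pow (t : k) (n : ℕ) : (lo t : SL k) ^ n = lo (n * t) := by
  induction n with
  | zero =>
    rw [pow_zero]
    apply Subtype.ext
    ext i j
    fin_cases i <;> fin_cases j <;> simp [lo]
  | succ n ih =>
    rw [pow_succ, ih]
    apply Subtype.ext
    rw [Matrix.SpecialLinearGroup.coe_mul]
    show (lo (n * t)).1 * (lo t).1 = (lo (((n + 1 : ℕ) : k) * t)).1
    ext i j
    fin_cases i <;> fin_cases j <;> simp [lo, Matrix.mul_apply, Fin.sum_univ_two]
    ring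

/-- `ph (SL₂(p))` is contained in the image of the finite group -/
theorem ph_mem_range {S : Type v} [Group S] (f : S →* ↥(D.group k)) {σ : MulAut ↥(D.group k)}
    (hr : ∀ y, σ y = y → (∃ j : ℕ, y ^ p ^ j = 1) → ∃ x, f x = y)
    (h1 : ∀ t : k, t ^ p = t → σ (xs hp.inList s t) = xs hp.inList s t)
    (h2 : ∀ t : k, t ^ p = t → σ (xs hp.inList (D.neg s) t) = xs hp.inList (D.neg s) t) (φ : ZMod p →+* k)
    (A : SL (ZMod p)) : ph hp k hs (Matrix.SpecialLinearGroup.map φ A) ∈ f.range := by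
  have hφ : ∀ t : ZMod p, (φ t) ^ p = φ t := fun t => by rw [← map_pow, ZMod.pow_card]
  have h3 : A ∈ (f.range.comap (ph hp k hs)).comap (Matrix.SpecialLinearGroup.map φ) := by
    refine (Subgroup.closure_le _).2 ?_ (mem_closure_SL2 A)
    rintro _ (⟨t, rfl⟩ | ⟨t, rfl⟩)
    · show ph hp k hs (Matrix.SpecialLinearGroup.map φ (up t)) ∈ f.range
      have e : Matrix.SpecialLinearGroup.map φ (up t) = up (φ t) := by
        apply Subtype.ext
        show φ.mapMatrix (up t).1 = (up (φ t)).1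
        ext i j
        fin_cases i <;> fin_cases j <;> simp [up]
      rw [e]
      refine hr _ ?_ ⟨1, ?_⟩
      · rw [ph_up]; exact h1 _ (hφ t)
      · rw [pow_one, ← map_pow, up_pow, CharP.cast_eq_zero, zero_mul, ph_up]
        apply Subtype.ext
        exact xG_zero hp.inList s
    · show ph hp k hs (Matrix.SpecialLinearGroup.map φ (lo t)) ∈ f.range
      have e : Matrix.SpecialLinearGroup.map φ (lo t) = lo (φ t) := by
        apply Subtype.ext
        show φ.mapMatrix (lo t).1 = (lo (φ t)).1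
        ext i j
        fin_cases i <;> fin_cases j <;> simp [lo]
      rw [e]
      refine hr _ ?_ ⟨1, ?_⟩
      · rw [ph_lo]; exact h2 _ (hφ t)
      · rw [pow_one, ← map_pow, lo_pow, CharP.cast_eq_zero, zero_mul, ph_lo]
        apply Subtype.ext
        exact xG_zero hp.inList (D.neg s)
  exact h3

theorem pow_fix {t : k} (ht : t ^ p = t) (e : ℕ) : t ^ p ^ e = t := by
  induction e with
  | zero => rw [pow_zero, pow_one]
  | succ e ih => rw [pow_succ, pow_mul, ih, ht]

include hs in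
/-- the Frobenius automorphism on root elements -/
theorem phi_xs [PerfectRing k p] (e : ℕ) {t : k} (ht : t ^ p = t) : phi D k p e (xs hp.inList s t) = xs hp.inList s t := by
  rw [xs_eq_xc hp hs]
  rw [phi, fld_eq_emb hp, TowChev.emb_xc]
  congr 1
  exact (frb_apply k p e t).trans (pow_fix p ht e)

section Six

open Cfsg.Agent.BpExc.FamTw.Gr
open Cfsg.Agent.ChevalleyStructure.GraphSymm (symmE6)

theorem fixE6 : ∀ r : Fin chevE6.nroots, r.val ∈ [0, 11, 27, 32] → (symmE6.σ r).val = r.val ∧ symmE6.ε r = 1 := by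
  decide +kernel

theorem fixE6n : ∀ r : Fin chevE6.nroots, r.val ∈ [0, 11, 27, 32].map chevE6.neg →
    (symmE6.σ r).val = r.val ∧ symmE6.ε r = 1 := by
  decide +kernel

/-- the Steinberg automorphism of type `²E₆` on root elements -/
theorem sig6_xs (hp : IsType chevE6 6 CoxeterMatrix.E₆) [PerfectRing k p] (e : ℕ) {r : Fin chevE6.nroots}
    (hr : (symmE6.σ r).val = r.val ∧ symmE6.ε r = 1) {t : k} (ht : t ^ p = t) :
    sig6 k p e (xs hp.inList r.val t) = xs hp.inList r.val t := by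
  show gr inListE6 symmE6 (phi chevE6 k p e (xs hp.inList r.val t)) = _
  rw [phi_xs hp p r.2 e ht]
  have h1 : ∀ t : k, xs hp.inList r.val t = xg inListE6 r.val t := fun t => rfl
  rw [h1, gr_xg, hr.1, hr.2]
  congr 1
  push_cast
  rw [one_mul]

end Six

end Cfsg.Agent.H971.RV
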