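import Cfsg.Agent.H971.RV.Cen
import Cfsg.Agent.H836.RV.SLThree

/-!
# TEAM RV, row R5 for `F₄, E₆, ²E₆, E₇, E₈`: `SL₂(3)` (helper971, from helper836's file)
-/

set_option autoImplicit false
set_option linter.unusedSectionVars false

namespace Cfsg.Agent.H971.RV

open Cfsg.Agent.Nodes.RGDFoldSL
open Cfsg.Agent.H167.EX (SL hS_neg_sq)
open Cfsg.Agent.H836.RV (X3 exists_ab map_X3 map_eq map_two neg_one_mem closure_order_six closure_order_three
  eq_of_comm card_dvd twelve_dvd card_three_dvd exists_conj_hS eq_neg_one)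

universe u

variable {k : Type u} [Field k]

theorem hS_ne_one (h2 : (2 : k) ≠ 0) : (hS (-1) : SL k) ≠ 1 := by
  intro h
  have h7 : (hS (-1 : k)).1 0 0 = -1 :=
    congrFun (congrFun (coe_hS (t := (-1 : k)) (neg_ne_zero.2 one_ne_zero)) 0) 0
  rw [h] at h7
  have h8 : (1 : k) = -1 := h7
  exact h2 (by linear_combination h8)

theorem hS_eq_neg (h2 : (2 : k) ≠ 0) : (hS (-1) : SL k) = -1 := eq_neg_one h2 hS_neg_sq (hS_ne_one h2)

/-- **`SL₂(3)`.** -/
theorem xok [IsAlgClosed k] (p : ℕ) [Fact p.Prime] [CharP k p] (h5 : 5 ≤ p) (a b : k) (h : a ^ 2 + b ^ 2 = -1)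
    (h2 : (2 : k) ≠ 0) : XOK p (X3 h h2) := by
  have h3 : (3 : k) ≠ 0 := by
    intro h0
    have h4 : p ∣ 3 := (CharP.cast_eq_zero_iff k p 3).1 (by exact_mod_cast h0)
    have := Nat.le_of_dvd (by norm_num) h4
    omega
  refine ⟨?_, ?_, ?_, ?_, card_dvd h h2 h3, (by norm_num : 3 ∣ 12).trans (twelve_dvd h h2 h3), ?_⟩
  · rw [hS_eq_neg h2]; exact neg_one_mem h h2
  · conv_lhs => rw [← closure_order_six h h2 h3]
    refine Subgroup.closure_mono ?_
    rintro A ⟨hA, hA6⟩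
    obtain ⟨P, ζ, hζ, e⟩ := exists_conj_hS h2 h3 hA6
    exact ⟨hA, P, ζ, by rw [← hζ]; ring, e⟩
  · conv_lhs => rw [← closure_order_three h h2 h3]
    refine Subgroup.closure_mono ?_
    rintro A ⟨hA, hA3⟩
    exact ⟨hA, by rw [← hA3]; exact pow_orderOf_eq_one A⟩
  · intro A hA
    rw [hS_eq_neg h2]
    exact eq_of_comm h h2 hA
  · intro Γ' hle hfin hp Q hQ hQ3
    have h6 := card_three_dvd h h2 p h3 Γ' hp hle Q hQ hQ3
    exact Nat.le_of_dvd (by norm_num) h6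

end Cfsg.Agent.H971.RV
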