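import Cfsg.Agent.H971.RV.Tor
import Cfsg.Agent.H971.RV.Xok
import Cfsg.Agent.H795.Untw

/-!
# TEAM RV, row R5 for `F₄, E₆, ²E₆, E₇, E₈`: rows from the combinatorial and numerical data (helper971)
-/

set_option autoImplicit false
set_option linter.unusedSectionVars false

namespace Cfsg.Agent.H971.RV

open CoxeterSystem Cfsg Cfsg.Lie Cfsg.Lie.ChevalleyDatum
open Cfsg.Agent.ChevalleyStructure Cfsg.Agent.ChevalleyStructure.Elts Cfsg.Agent.ChevalleyStructure.CoxeterGeom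
  Cfsg.Agent.ChevalleyStructure.CoxeterGeomTypes Cfsg.Agent.ChevalleyStructure.NPerm
open Cfsg.Agent.Tits.Roots Cfsg.Agent.Tits.Core Cfsg.Agent.Nodes Cfsg.Agent.Nodes.Reps Cfsg.Agent.Nodes.BNOf
  Cfsg.Agent.Nodes.RGDChev Cfsg.Agent.Nodes.Bruhat Cfsg.Agent.Nodes.NormalForm
open Cfsg.Agent.KFacts.RgdField Cfsg.Agent.KFacts.RgdChevCoord
open Cfsg.Agent.BpExc Cfsg.Agent.BpExc.TorCent Cfsg.Agent.BpExc.TorChev Cfsg.Agent.BpExc.Tow
  Cfsg.Agent.BpExc.TowChev Cfsg.Agent.BpExc.Fr Cfsg.Agent.BpExc.Pair Cfsg.Agent.BpExc.LangFr Cfsg.Agent.GpExc.Field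
  Cfsg.Agent.BpExc.TorAll
open Cfsg.Agent.H469.Exc Cfsg.Agent.H469.Exc.SigFr
open Cfsg.Agent.Nodes.RGDFoldSL
open Cfsg.Agent.H167.EX Cfsg.Agent.H129.TorusChar Cfsg.Agent.H129.TorusUntw
open Cfsg.Agent.H720.TwFr Cfsg.Agent.H571.RV

universe u v w

theorem five_le {p : ℕ} (hp : p.Prime) {π : Set ℕ} (h2 : 2 ∈ π) (h3 : 3 ∈ π) (hpπ : p ∉ π) : 5 ≤ p := by
  have h1 := hp.two_le
  by_contra hcon
  have h4 : p = 2 ∨ p = 3 ∨ p = 4 := by omega
  rcases h4 with rfl | rfl | rfl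
  · exact hpπ h2
  · exact hpπ h3
  · exact absurd hp (by norm_num)

/-- the Frobenius automorphism on root elements -/
theorem phiT_xs {D : ChevalleyDatum} {l : ℕ} {M : CoxeterMatrix (Fin l)} (hp : IsType D l M) {k : Type u} [Field k]
    [IsAlgClosed k] (p : ℕ) [Fact p.Prime] [CharP k p] {s : ℕ} (hs : s < D.nroots) (e : ℕ) {t : k} (ht : t ^ p = t) :
    phi D k p e (xs hp.inList s t) = xs hp.inList s t := by
  rw [xs_eq_xc hp hs, phi_eq hp, TowChev.emb_xc]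
  congr 1
  rw [iterateFrobenius_def]
  exact pow_fix p ht e

/-- the combinatorial input for one type -/
def FrAll {D : ChevalleyDatum} {l : ℕ} {M : CoxeterMatrix (Fin l)} (hp : IsType D l M) {m : ℕ} (s : Fin m → ℕ)
    (hs : ∀ i, s i < D.nroots) : Prop :=
  ∀ (k : Type) [Field k] [IsAlgClosed k] (p : ℕ) [Fact p.Prime] [CharP k p], LocFin k → 5 ≤ p → ∀ Γ : Subgroup (SL k),
    XOK p Γ → FrOK hp k p s hs Γ

variable {D : ChevalleyDatum} {l : ℕ} {M : CoxeterMatrix (Fin l)} {hp : IsType D l M}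
  {m : ℕ} {s : Fin m → ℕ} {hs : ∀ i, s i < D.nroots}

/-- **Untwisted rows.** -/
theorem row_untw (O : FrAll hp s hs) (hgl : ∀ r < D.nroots, gl D (List.ofFn s) r ≠ 0)
    {d : ℕ} {B : Fin l → Fin l → ℤ} (hB : InvC D l d B) (hd : d ≠ 0) (hd1 : d = 1 ∨ d.Prime) (hd5 : ¬ 5 ∣ d)
    {F : Type} [Field F] [Fintype F] {p : ℕ} (hpp : p.Prime) [hFp : CharP F p] {π : Set ℕ} (h2π : 2 ∈ π) (h3π : 3 ∈ π)
    (hpπ : p ∉ π) {S : Type v} [Group S] (hm3 : 3 ≤ m) (hm : ¬ 3 ∣ m) (c₀ : ℕ)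
    (hC : ∀ Q : Subgroup ↥(D.group F), IsPGroup 3 Q →
      (∀ n ∈ Q, emb hp.inList (algebraMap F (AlgebraicClosure F)) n ∈ TT D (AlgebraicClosure F) ∧
        ∀ i, ch hp (vec D l (s i)) (emb hp.inList (algebraMap F (AlgebraicClosure F)) n) = 1) → Nat.card Q ≤ c₀)
    (hcard : 3 ^ (m.factorial.factorization 3) * (3 ^ m * c₀) < 3 ^ ((Nat.card ↥(D.group F)).factorization 3))
    (hS : Nonempty (S ≃* D.group F)) : ¬ DB π S := by
  have := Fact.mk hpp
  obtain ⟨p', e, hp', hpF', hpk', he, hq, hk⟩ := exists_closure (F := F) rfl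
  have hpe : p' = p := CharP.eq F hpF' hFp
  subst hpe
  have h5 := five_le hpp h2π h3π hpπ
  have := Fact.mk Nat.prime_five
  have hset := Cfsg.Agent.H795.Untw.setup_untw hp hk (algebraMap F (AlgebraicClosure F)) he hq hB hd hd1 (p := 5) hd5
  obtain ⟨φ⟩ := hS
  have : Finite S := Finite.of_injective φ φ.injective
  have e1 : ∀ i, ∀ t : AlgebraicClosure F, t ^ p' = t → phi D (AlgebraicClosure F) p' e (xs hp.inList (s i) t) =
      xs hp.inList (s i) t := fun i t ht => phiT_xs hp p' (hs i) e ht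
  have e2 : ∀ i, ∀ t : AlgebraicClosure F, t ^ p' = t → phi D (AlgebraicClosure F) p' e (xs hp.inList (D.neg (s i)) t) =
      xs hp.inList (D.neg (s i)) t := fun i t ht => phiT_xs hp p' (neg_lt hp.inList (hs i)) e ht
  exact row_of_setup (hp := hp) (hs := hs) (p := p') h5 hk (σ := phi D (AlgebraicClosure F) p' e) hset.inj hset.r_mem e1 e2
    (fun Γ hΓ => O _ p' hk h5 Γ hΓ) (fun a b h h2 => xok p' h5 a b h h2) hgl φ h2π h3π hpπ hm3 hm c₀ hC hcard

/-- the full rank case -/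
theorem row_full (O : FrAll hp s hs) (hgl : ∀ r < D.nroots, gl D (List.ofFn s) r ≠ 0)
    {d : ℕ} {B : Fin l → Fin l → ℤ} (hB : InvC D l d B) (hd : d ≠ 0) (hd1 : d = 1 ∨ d.Prime) (hd5 : ¬ 5 ∣ d)
    {F : Type} [Field F] [Fintype F] {p : ℕ} (hpp : p.Prime) [hFp : CharP F p] {π : Set ℕ} (h2π : 2 ∈ π) (h3π : 3 ∈ π)
    (hpπ : p ∉ π) {S : Type v} [Group S] (hm3 : 3 ≤ m) (hm : ¬ 3 ∣ m) {c : Fin m → Fin l → ℤ}
    (hlat : ∀ j : Fin l, ((2 : ℕ) : ℤ) • (sr j : Fin l → ℤ) = ∑ i, c i j • vec D l (s i))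
    (hcard : 3 ^ (m.factorial.factorization 3 + m + 1) ∣ Nat.card ↥(D.group F))
    (hS : Nonempty (S ≃* D.group F)) : ¬ DB π S := by
  have := Fact.mk hpp
  obtain ⟨p', e, hp', hpF', hpk', he, hq, hk⟩ := exists_closure (F := F) rfl
  have hpe : p' = p := CharP.eq F hpF' hFp
  subst hpe
  refine row_untw O hgl hB hd hd1 hd5 hpp h2π h3π hpπ hm3 hm 1 (fun Q hQ hQc => ?_) ?_ hS
  · refine card_le_one_of (hp := hp) (s := s) (p := p') hk (emb_injective hp.inList _) (fun n hn hn1 => ⟨1, ?_⟩) Q hQ hQc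
    rw [pow_one]
    exact tor_of hp hs hlat hn hn1
  · rw [mul_one, ← pow_add]
    refine Nat.pow_lt_pow_right (by norm_num) ?_
    have h1 := (Nat.prime_three.pow_dvd_iff_le_factorization Nat.card_pos.ne').1 hcard
    omega

theorem f4T : IsType chevF4 4 CoxeterMatrix.F₄ := by simp [IsType, typeList]
theorem e6T : IsType chevE6 6 CoxeterMatrix.E₆ := by simp [IsType, typeList]
theorem e7T : IsType chevE7 7 CoxeterMatrix.E₇ := by simp [IsType, typeList]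
theorem e8T : IsType chevE8 8 CoxeterMatrix.E₈ := by simp [IsType, typeList]

theorem ltsF4 : ∀ i, sF4 i < chevF4.nroots := by decide +kernel
theorem ltsE6 : ∀ i, sE6 i < chevE6.nroots := by decide +kernel
theorem ltsE7 : ∀ i, sE7 i < chevE7.nroots := by decide +kernel
theorem ltsE8 : ∀ i, sE8 i < chevE8.nroots := by decide +kernel

theorem fac3_4 : (Nat.factorial 4).factorization 3 = 1 := by
  rw [show Nat.factorial 4 = 3 ^ 1 * 8 by decide, Nat.factorization_mul (by norm_num) (by norm_num),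
    Finsupp.add_apply, Nat.prime_three.factorization_pow, Finsupp.single_eq_same,
    Nat.factorization_eq_zero_of_not_dvd (by norm_num : ¬ 3 ∣ 8)]

theorem fac3_7 : (Nat.factorial 7).factorization 3 = 2 := by
  rw [show Nat.factorial 7 = 3 ^ 2 * 560 by decide, Nat.factorization_mul (by norm_num) (by norm_num),
    Finsupp.add_apply, Nat.prime_three.factorization_pow, Finsupp.single_eq_same,
    Nat.factorization_eq_zero_of_not_dvd (by norm_num : ¬ 3 ∣ 560)]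

theorem fac3_8 : (Nat.factorial 8).factorization 3 = 2 := by
  rw [show Nat.factorial 8 = 3 ^ 2 * 4480 by decide, Nat.factorization_mul (by norm_num) (by norm_num),
    Finsupp.add_apply, Nat.prime_three.factorization_pow, Finsupp.single_eq_same,
    Nat.factorization_eq_zero_of_not_dvd (by norm_num : ¬ 3 ∣ 4480)]

section

variable {F : Type} [Field F] [Fintype F] {p : ℕ} [CharP F p] {π : Set ℕ} {S : Type v} [Group S]

theorem row_F4 (O : FrAll f4T sF4 ltsF4) (hpp : p.Prime) (h2π : 2 ∈ π) (h3π : 3 ∈ π) (hpπ : p ∉ π)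
    (hN : 3 ^ 6 ∣ Nat.card ↥(chevF4.group F)) (hS : Nonempty (S ≃* chevF4.group F)) : ¬ DB π S :=
  row_full O glF4 invC_F4 one_ne_zero (Or.inl rfl) (by norm_num) hpp h2π h3π hpπ (by norm_num) (by norm_num) latF4
    (by rw [fac3_4]; exact hN) hS

theorem row_E7 (O : FrAll e7T sE7 ltsE7) (hpp : p.Prime) (h2π : 2 ∈ π) (h3π : 3 ∈ π) (hpπ : p ∉ π)
    (hN : 3 ^ 10 ∣ Nat.card ↥(chevE7.group F)) (hS : Nonempty (S ≃* chevE7.group F)) : ¬ DB π S :=
  row_full O glE7 invC_E7 two_ne_zero (Or.inr Nat.prime_two) (by norm_num) hpp h2π h3π hpπ (by norm_num) (by norm_num)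
    latE7 (by rw [fac3_7]; exact hN) hS

theorem row_E8 (O : FrAll e8T sE8 ltsE8) (hpp : p.Prime) (h2π : 2 ∈ π) (h3π : 3 ∈ π) (hpπ : p ∉ π)
    (hN : 3 ^ 11 ∣ Nat.card ↥(chevE8.group F)) (hS : Nonempty (S ≃* chevE8.group F)) : ¬ DB π S :=
  row_full O glE8 invC_E8 one_ne_zero (Or.inl rfl) (by norm_num) hpp h2π h3π hpπ (by norm_num) (by norm_num) latE8
    (by rw [fac3_8]; exact hN) hS

theorem row_E6 (O : FrAll hp6 sE6 ltsE6) (hpp : p.Prime) (h2π : 2 ∈ π) (h3π : 3 ∈ π) (hpπ : p ∉ π) (c₀ : ℕ)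
    (hC : ∀ Q : Subgroup ↥(chevE6.group F), IsPGroup 3 Q →
      (∀ n ∈ Q, emb hp6.inList (algebraMap F (AlgebraicClosure F)) n ∈ TT chevE6 (AlgebraicClosure F) ∧
        ∀ i, ch hp6 (vec chevE6 6 (sE6 i)) (emb hp6.inList (algebraMap F (AlgebraicClosure F)) n) = 1) → Nat.card Q ≤ c₀)
    (hN : 3 ^ 5 * c₀ < 3 ^ ((Nat.card ↥(chevE6.group F)).factorization 3)) (hS : Nonempty (S ≃* chevE6.group F)) :
    ¬ DB π S :=
  row_untw O glE6 invC_E6 (by norm_num) (Or.inr Nat.prime_three) (by norm_num) hpp h2π h3π hpπ (by norm_num)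
    (by norm_num) c₀ hC (by rw [fac3_4, ← mul_assoc, ← pow_add]; exact hN) hS

theorem row_Tw (O : FrAll hp6 sE6 ltsE6) (hpp : p.Prime) (h2π : 2 ∈ π) (h3π : 3 ∈ π) (hpπ : p ∉ π)
    {q : ℕ} (hq : IsPrimePow q) (hK : Fintype.card F = q ^ 2) (c₀ : ℕ)
    (hC : ∀ Q : Subgroup ↥(twistedE6 F q), IsPGroup 3 Q →
      (∀ n ∈ Q, em6 q (algebraMap F (AlgebraicClosure F)) n ∈ TT chevE6 (AlgebraicClosure F) ∧
        ∀ i, ch hp6 (vec chevE6 6 (sE6 i)) (em6 q (algebraMap F (AlgebraicClosure F)) n) = 1) → Nat.card Q ≤ c₀)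
    (hN : 3 ^ 5 * c₀ < 3 ^ ((Nat.card ↥(twistedE6 F q)).factorization 3)) (hS : Nonempty (S ≃* twistedE6 F q)) :
    ¬ DB π S := by
  rename_i hFp _
  obtain ⟨r, n, hr, hrF, hrk, hn0, hn, hk⟩ := Cfsg.Agent.H795.Tw.exists_closure_q (K := F) two_ne_zero hq hK
  have hpe : r = p := CharP.eq F hrF hFp
  subst hpe
  have h5 := five_le hpp h2π h3π hpπ
  have := Fact.mk Nat.prime_five
  have hset := Cfsg.Agent.H795.Tw.setup_six (algebraMap F (AlgebraicClosure F)) r hk hn0 hn hK (p := 5) (by norm_num)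
  obtain ⟨φ⟩ := hS
  have : Finite S := Finite.of_injective φ φ.injective
  have e1 : ∀ i, sE6 i ∈ [0, 11, 27, 32] := by decide
  refine row_of_setup (hp := hp6) (hs := ltsE6) (p := r) h5 hk hset.inj hset.r_mem (fun i t ht => ?_) (fun i t ht => ?_)
    (fun Γ hΓ => O _ r hk h5 Γ hΓ) (fun a b h h2 => xok r h5 a b h h2) glE6 φ h2π h3π hpπ (by norm_num) (by norm_num) c₀ hC
    (by rw [fac3_4, ← mul_assoc, ← pow_add]; exact hN)
  · exact sig6_xs r hp6 n (r := ⟨sE6 i, ltsE6 i⟩) (fixE6 _ (e1 i)) ht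
  · exact sig6_xs r hp6 n (r := ⟨chevE6.neg (sE6 i), neg_lt hp6.inList (ltsE6 i)⟩)
      (fixE6n _ (List.mem_map_of_mem (e1 i))) ht

end

end Cfsg.Agent.H971.RV
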