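import Cfsg.Agent.H971.RV.FrOKA

/-!
# TEAM RV, row R5 for `E₈`: the data of the frame (helper971)
-/

set_option autoImplicit false

namespace Cfsg.Agent.H971.RV

open Cfsg Cfsg.Lie Cfsg.Lie.ChevalleyDatum
open Cfsg.Agent.H512.LinFour.IdealF Cfsg.Agent.H720.TwFr
open Cfsg.Agent.ChevalleyStructure Cfsg.Agent.H167.EX

theorem lacE8 : Lac chevE8 := ⟨by simp, by decide +kernel, by decide +kernel⟩

/-! ### the checks in small pieces (memory of the kernel) -/

/-- the check for one involution of the torus -/
def invB8 (b : ℕ) : Bool :=
  decide (b = 0) || ((List.ofFn sE8).any fun s => decide (pr chevE8 8 b s % 2 ≠ 0)) ||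
    ((List.ofFn sE8).any fun s => (List.finRange 8).all fun j : Fin 8 =>
      decide (((if b.testBit j then 1 else 0) - HMatDiagAll.expo chevE8 s (chevE8.simple j)) % 2 = 0)) ||
    decide ((trN chevE8 8 b - 24) ∣ 96)

theorem chkInv_eq8 : chkInv chevE8 8 (List.ofFn sE8) 24 =
    (((List.ofFn sE8).all fun s => decide (trZ chevE8 s = 24)) && (List.range (2 ^ 8)).all invB8) := rfl

theorem invB8_0 : ((List.range' 0 16).all invB8) = true := by decide +kernel
theorem invB8_1 : ((List.range' 16 16).all invB8) = true := by decide +kernel
theorem invB8_2 : ((List.range' 32 16).all invB8) = true := by decide +kernel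
theorem invB8_3 : ((List.range' 48 16).all invB8) = true := by decide +kernel
theorem invB8_4 : ((List.range' 64 16).all invB8) = true := by decide +kernel
theorem invB8_5 : ((List.range' 80 16).all invB8) = true := by decide +kernel
theorem invB8_6 : ((List.range' 96 16).all invB8) = true := by decide +kernel
theorem invB8_7 : ((List.range' 112 16).all invB8) = true := by decide +kernel
theorem invB8_8 : ((List.range' 128 16).all invB8) = true := by decide +kernel
theorem invB8_9 : ((List.range' 144 16).all invB8) = true := by decide +kernel
theorem invB8_10 : ((List.range' 160 16).all invB8) = true := by decide +kernel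
theorem invB8_11 : ((List.range' 176 16).all invB8) = true := by decide +kernel
theorem invB8_12 : ((List.range' 192 16).all invB8) = true := by decide +kernel
theorem invB8_13 : ((List.range' 208 16).all invB8) = true := by decide +kernel
theorem invB8_14 : ((List.range' 224 16).all invB8) = true := by decide +kernel
theorem invB8_15 : ((List.range' 240 16).all invB8) = true := by decide +kernel

theorem ofFn_sE8 : List.ofFn sE8 = [0, 13, 80, 87, 98, 104, 113, 118] := by decide +kernel

/-- the check for one root of the frame -/
def root8 (s : ℕ) : Bool := (good chevE8 s && lng chevE8 s) && decide (trZ chevE8 s = 24)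

theorem root8_a : ([0, 13, 80].all root8) = true := by decide +kernel

theorem root8_b : ([87, 98, 104].all root8) = true := by decide +kernel

theorem root8_c : ([113, 118].all root8) = true := by decide +kernel

theorem chk_root8 : ∀ s ∈ List.ofFn sE8, root8 s = true := by
  rw [ofFn_sE8]
  intro s hs
  rw [show [0, 13, 80, 87, 98, 104, 113, 118] = [0, 13, 80] ++ ([87, 98, 104] ++ [113, 118]) from rfl,
    List.mem_append, List.mem_append] at hs
  rcases hs with hs | hs | hs
  · exact List.all_eq_true.1 root8_a s hs
  · exact List.all_eq_true.1 root8_b s hs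
  · exact List.all_eq_true.1 root8_c s hs

theorem chk_trZ8 : ((List.ofFn sE8).all fun s => decide (trZ chevE8 s = 24)) = true :=
  List.all_eq_true.2 fun s hs => (Bool.and_eq_true_iff.1 (chk_root8 s hs)).2

theorem chk_good8 : ((List.ofFn sE8).all fun s => good chevE8 s && lng chevE8 s) = true :=
  List.all_eq_true.2 fun s hs => (Bool.and_eq_true_iff.1 (chk_root8 s hs)).1

theorem chk_nodup8 : decide (List.ofFn sE8).Nodup = true := by decide +kernel
theorem chk_O8 : chkO chevE8 (List.ofFn sE8) = true := by decide +kernel
theorem chk_Z8 : chkZ chevE8 (List.ofFn sE8) = true := by decide +kernel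

theorem mem_chunk {f : ℕ → Bool} {a : ℕ} (h : ((List.range' a 16).all f) = true) {b : ℕ} (h1 : a ≤ b) (h2 : b < a + 16) :
    f b = true :=
  List.all_eq_true.1 h b (List.mem_range'_1.2 ⟨h1, h2⟩)

theorem chk_range8 : (List.range (2 ^ 8)).all invB8 = true := by
  refine List.all_eq_true.2 fun b hb => ?_
  have hb' : b < 256 := List.mem_range.1 hb
  rcases Nat.lt_or_ge b 128 with h | h
  · rcases Nat.lt_or_ge b 64 with h | h
    · rcases Nat.lt_or_ge b 32 with h | h
      · rcases Nat.lt_or_ge b 16 with h | h
        · exact mem_chunk invB8_0 (Nat.zero_le _) h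
        · exact mem_chunk invB8_1 h (by omega)
      · rcases Nat.lt_or_ge b 48 with h | h
        · exact mem_chunk invB8_2 (by omega) h
        · exact mem_chunk invB8_3 h (by omega)
    · rcases Nat.lt_or_ge b 96 with h | h
      · rcases Nat.lt_or_ge b 80 with h | h
        · exact mem_chunk invB8_4 (by omega) h
        · exact mem_chunk invB8_5 h (by omega)
      · rcases Nat.lt_or_ge b 112 with h | h
        · exact mem_chunk invB8_6 (by omega) h
        · exact mem_chunk invB8_7 h (by omega)
  · rcases Nat.lt_or_ge b 192 with h | h
    · rcases Nat.lt_or_ge b 160 with h | h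
      · rcases Nat.lt_or_ge b 144 with h | h
        · exact mem_chunk invB8_8 (by omega) h
        · exact mem_chunk invB8_9 h (by omega)
      · rcases Nat.lt_or_ge b 176 with h | h
        · exact mem_chunk invB8_10 (by omega) h
        · exact mem_chunk invB8_11 h (by omega)
    · rcases Nat.lt_or_ge b 224 with h | h
      · rcases Nat.lt_or_ge b 208 with h | h
        · exact mem_chunk invB8_12 (by omega) h
        · exact mem_chunk invB8_13 h (by omega)
      · rcases Nat.lt_or_ge b 240 with h | h
        · exact mem_chunk invB8_14 (by omega) h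
        · exact mem_chunk invB8_15 h (by omega)

theorem chk_inv8 : chkInv chevE8 8 (List.ofFn sE8) 24 = true := by
  rw [chkInv_eq8, chk_trZ8, chk_range8, Bool.true_and]

theorem chk_all8 : chkAll chevE8 8 (List.ofFn sE8) 24 = true := by
  unfold chkAll
  rw [chk_good8, chk_nodup8, chk_O8, chk_inv8, chk_Z8]
  rfl

theorem frE8 : FrAll e8T sE8 ltsE8 :=
  frAll_of e8T ltsE8 lacE8 glE8 (T0 := 24) chk_all8

end Cfsg.Agent.H971.RV
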