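import Cfsg.Agent.H971.RV.RowsC
import Cfsg.Agent.H971.RV.FrOKF4
import Cfsg.Agent.H971.RV.FrOKE6
import Cfsg.Agent.H971.RV.FrOKE7
import Cfsg.Agent.H971.RV.FrOKE8

/-!
# TEAM RV, row R5 for `F₄, E₆, ²E₆, E₇, E₈`: the final statements (helper971)

Exactly the fields `f4_5, e6_5, e7_5, e8_5, tw_5` of `H959.RV.OpenRows`.
-/

set_option autoImplicit false

namespace Cfsg.Agent.H971.RV

open Cfsg Cfsg.Agent.H571.RV

universe u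

variable {π : Set ℕ} {S : Type u} [Group S]

theorem f4_5 (h2 : 2 ∈ π) (h3 : 3 ∈ π) (p : ℕ) (hp : p.Prime) (hpπ : p ∉ π) (F : Type) [Field F] [Fintype F]
    [CharP F p] (hS : Nonempty (S ≃* Lie.chevF4.group F)) : ¬ DB π S :=
  rowF4' (p := p) frF4 hp h2 h3 hpπ hS

theorem e6_5 (h2 : 2 ∈ π) (h3 : 3 ∈ π) (p : ℕ) (hp : p.Prime) (hpπ : p ∉ π) (F : Type) [Field F] [Fintype F]
    [CharP F p] (hS : Nonempty (S ≃* Lie.chevE6.group F)) : ¬ DB π S :=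
  rowE6' (p := p) frE6 hp h2 h3 hpπ hS

theorem e7_5 (h2 : 2 ∈ π) (h3 : 3 ∈ π) (p : ℕ) (hp : p.Prime) (hpπ : p ∉ π) (F : Type) [Field F] [Fintype F]
    [CharP F p] (hS : Nonempty (S ≃* Lie.chevE7.group F)) : ¬ DB π S :=
  rowE7' (p := p) frE7 hp h2 h3 hpπ hS

theorem e8_5 (h2 : 2 ∈ π) (h3 : 3 ∈ π) (p : ℕ) (hp : p.Prime) (hpπ : p ∉ π) (F : Type) [Field F] [Fintype F]
    [CharP F p] (hS : Nonempty (S ≃* Lie.chevE8.group F)) : ¬ DB π S :=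
  rowE8' (p := p) frE8 hp h2 h3 hpπ hS

theorem tw_5 (h2 : 2 ∈ π) (h3 : 3 ∈ π) (p : ℕ) (hp : p.Prime) (hpπ : p ∉ π) (F : Type) [Field F] [Fintype F]
    [CharP F p] (q : ℕ) (hq : IsPrimePow q) (hF : Fintype.card F = q ^ 2) (hS : Nonempty (S ≃* Lie.twistedE6 F q)) :
    ¬ DB π S :=
  rowTw' (p := p) frE6 hp h2 h3 hpπ hq hF hS

end Cfsg.Agent.H971.RV
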