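import Cfsg.Agent.H971.RV.Key

/-!
# TEAM RV, row R5 for `F₄, E₆, ²E₆, E₇, E₈`: centralisers of fundamental subgroups (helper971)
-/

set_option autoImplicit false
set_option linter.unusedSectionVars false

namespace Cfsg.Agent.H971.RV

open CoxeterSystem Cfsg Cfsg.Lie Cfsg.Lie.ChevalleyDatum
open Cfsg.Agent.ChevalleyStructure Cfsg.Agent.ChevalleyStructure.Elts Cfsg.Agent.ChevalleyStructure.CoxeterGeom
  Cfsg.Agent.ChevalleyStructure.CoxeterGeomTypes Cfsg.Agent.ChevalleyStructure.NPerm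
open Cfsg.Agent.Tits.Roots Cfsg.Agent.Tits.Core Cfsg.Agent.Nodes Cfsg.Agent.Nodes.Reps Cfsg.Agent.Nodes.BNOf
  Cfsg.Agent.Nodes.RGDChev Cfsg.Agent.Nodes.Bruhat Cfsg.Agent.Nodes.NormalForm
open Cfsg.Agent.KFacts.RgdField Cfsg.Agent.KFacts.RgdChevCoord
open Cfsg.Agent.BpExc Cfsg.Agent.BpExc.TorCent Cfsg.Agent.BpExc.TorChev Cfsg.Agent.BpExc.Tow
  Cfsg.Agent.BpExc.TowChev Cfsg.Agent.BpExc.Fr Cfsg.Agent.BpExc.Pair Cfsg.Agent.BpExc.LangFr Cfsg.Agent.GpExc.Field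
  Cfsg.Agent.BpExc.TorAll
open Cfsg.Agent.H469.Exc Cfsg.Agent.H469.Exc.SigFr
open Cfsg.Agent.Nodes.RGDFoldSL
open Cfsg.Agent.H167.EX Cfsg.Agent.H512.LinFour.IdealF
open Module

universe u v

variable {D : ChevalleyDatum} {l : ℕ} {M : CoxeterMatrix (Fin l)} (hp : IsType D l M) {k : Type u} [Field k]
  {s : ℕ} (hs : s < D.nroots)

/-! ### `ph` is injective -/

theorem ph_injective (hone : ∃ r < D.nroots, HMatDiagAll.expo D s r = 1) (h2 : (2 : k) ≠ 0) (hne : D.neg s ≠ s)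
    (hn : D.neg s < D.nroots) : Function.Injective (ph hp k hs) := by
  rw [injective_iff_map_eq_one]
  intro A hA
  have h1 : (psi hp.inList k s A : Matrix D.Idx D.Idx k) = 1 := by
    have h3 := congrArg (fun x : ↥(D.group k) => ((x : GL D.Idx k) : Matrix D.Idx D.Idx k)) hA
    exact h3
  rw [psi, dif_pos hs, SL2Hom.coe_phi] at h1
  set a := A.1 0 0
  set b := A.1 0 1
  set c := A.1 1 0
  set d := A.1 1 1
  have e1 : ∀ row, SL2Rep.colE D s a b c d s row = (1 : Matrix D.Idx D.Idx k) row (Sum.inr ⟨s, hs⟩) := by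
    intro row
    rw [← h1]; rfl
  have e2 : ∀ row, SL2Rep.colE D s a b c d (D.neg s) row = (1 : Matrix D.Idx D.Idx k) row (Sum.inr ⟨D.neg s, hn⟩) := by
    intro row
    rw [← h1]; rfl
  have hc : c = 0 := by
    have h3 := e1 (Sum.inr ⟨D.neg s, hn⟩)
    have h4 : (Sum.inr ⟨D.neg s, hn⟩ : D.Idx) ≠ Sum.inr ⟨s, hs⟩ := by
      intro h
      exact hne (congrArg Fin.val (Sum.inr.inj h))
    rw [Matrix.one_apply_ne h4, SL2Rep.colE, if_pos rfl] at h3
    simp only [Pi.sub_apply, Pi.smul_apply, SL2Rep.eV, SL2Rep.hR, Sum.elim_inr, smul_eq_mul, if_neg hne, if_true,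
      mul_zero, mul_one, sub_zero, zero_sub, neg_eq_zero] at h3
    exact pow_eq_zero_iff two_ne_zero |>.1 h3
  have hb : b = 0 := by
    have h3 := e2 (Sum.inr ⟨s, hs⟩)
    have h4 : (Sum.inr ⟨s, hs⟩ : D.Idx) ≠ Sum.inr ⟨D.neg s, hn⟩ := by
      intro h
      exact hne (congrArg Fin.val (Sum.inr.inj h)).symm
    rw [Matrix.one_apply_ne h4, SL2Rep.colE, if_neg hne, if_pos rfl] at h3
    simp only [Pi.add_apply, Pi.smul_apply, SL2Rep.eV, SL2Rep.hR, Sum.elim_inr, smul_eq_mul, if_neg hne.symm, if_true,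
      mul_zero, mul_one, add_zero] at h3
    exact pow_eq_zero_iff two_ne_zero |>.1 (neg_eq_zero.1 h3)
  have ha : a ^ 2 = 1 := by
    have h3 := e1 (Sum.inr ⟨s, hs⟩)
    rw [Matrix.one_apply_eq, SL2Rep.colE, if_pos rfl] at h3
    simp only [Pi.sub_apply, Pi.smul_apply, SL2Rep.eV, SL2Rep.hR, Sum.elim_inr, smul_eq_mul, if_neg hne.symm, if_true,
      mul_zero, mul_one, sub_zero] at h3
    exact h3
  have hdet : a * d - b * c = 1 := by
    have := A.2
    rw [Matrix.det_fin_two] at this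
    exact this
  rw [hb, zero_mul, sub_zero] at hdet
  have ha0 : a ≠ 0 := by rintro h; rw [h, zero_mul] at hdet; exact zero_ne_one hdet
  have hAS : A = hS a := by
    apply Subtype.ext
    rw [coe_hS ha0]
    ext i j
    fin_cases i <;> fin_cases j
    · rfl
    · exact hb
    · exact hc
    · show d = a⁻¹
      exact eq_inv_of_mul_eq_one_right hdet
  have h3 : (a - 1) * (a + 1) = 0 := by linear_combination ha
  rcases mul_eq_zero.1 h3 with h4 | h4
  · rw [hAS, sub_eq_zero.1 h4]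
    apply Subtype.ext
    rw [coe_hS one_ne_zero, inv_one]
    ext i j
    fin_cases i <;> fin_cases j <;> simp
  · exfalso
    obtain ⟨r, hr, hexp⟩ := hone
    have h5 := coe_ph_hS hp hs ha0 (c := a)
    rw [← hAS, hA] at h5
    have h6 := congrFun (congrFun h5 (Sum.inr ⟨r, hr⟩)) (Sum.inr ⟨r, hr⟩)
    rw [Matrix.diagonal_apply_eq] at h6
    have h7 : (1 : k) = a ^ HMatDiagAll.expo D s r := by
      rw [← Matrix.one_apply_eq (Sum.inr ⟨r, hr⟩ : D.Idx)]
      exact h6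
    rw [hexp, _root_.zpow_one, eq_neg_of_add_eq_zero_left h4] at h7
    apply h2
    linear_combination h7

theorem good_inj (hg : good D s = true) (hl : lng D s = true) (h2 : (2 : k) ≠ 0) : Function.Injective (ph hp k hs) :=
  ph_injective hp hs (good_spec hg).2.2.2 h2 (lng_spec hl).2.2.1 (lng_spec hl).2.1

/-! ### elements of order 6 -/

/-- conjugate to `diag (ζ, ζ⁻¹)`, `ζ` a primitive sixth root of unity -/
def Six (A : SL k) : Prop := ∃ (P : SL k) (ζ : k), ζ * ζ - ζ + 1 = 0 ∧ A = P * hS ζ * P⁻¹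

theorem hS_neg_comm (B : SL k) : hS (-1 : k) * B = B * hS (-1) := by
  apply Subtype.ext
  rw [Matrix.SpecialLinearGroup.coe_mul, Matrix.SpecialLinearGroup.coe_mul, coe_hS (neg_ne_zero.2 one_ne_zero)]
  ext i j
  fin_cases i <;> fin_cases j <;> simp [Matrix.mul_apply, Fin.sum_univ_two, inv_neg]

theorem Six.cube {A : SL k} (h : Six A) : A ^ 3 = hS (-1) := by
  obtain ⟨P, ζ, hζ, rfl⟩ := h
  have hζ0 : ζ ≠ 0 := by
    rintro rfl
    simp at hζ
  have h3 : ζ ^ 3 = -1 := by linear_combination (ζ + 1) * hζ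
  have h4 : (hS ζ) ^ 3 = hS (-1 : k) := by
    apply Subtype.ext
    rw [Matrix.SpecialLinearGroup.coe_pow, coe_hS hζ0, coe_hS (neg_ne_zero.2 one_ne_zero), ← h3]
    ext i j
    fin_cases i <;> fin_cases j <;> simp [pow_succ, Matrix.mul_apply, Fin.sum_univ_two, mul_assoc]
  rw [conj_pow, h4, ← hS_neg_comm, mul_inv_cancel_right]

/-- what is used about `SL₂(3) ≤ SL₂(k)` -/
structure XOK (p : ℕ) (Γ : Subgroup (SL k)) : Prop where
  neg : hS (-1) ∈ Γ
  six : Γ ≤ Subgroup.closure {A | A ∈ Γ ∧ Six A}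
  three : Γ ≤ Subgroup.closure {A | A ∈ Γ ∧ A ^ 3 = 1}
  cent : ∀ A : SL k, (∀ B ∈ Γ, A * B = B * A) → A = 1 ∨ A = hS (-1)
  card : Nat.card Γ ∣ 24
  three_dvd : 3 ∣ Nat.card Γ
  dick : ∀ Γ' : Subgroup (SL k), Γ ≤ Γ' → Finite Γ' → ¬ p ∣ Nat.card Γ' → ∀ Q ≤ Γ', IsPGroup 3 Q → Nat.card Q ≤ 3

theorem zz_comm (B : SL k) : zz hp (k := k) hs * ph hp k hs B = ph hp k hs B * zz hp hs := by
  unfold zz
  rw [← map_mul, ← map_mul, hS_neg_comm]

theorem zz_cent : zz hp (k := k) hs ∈ Subgroup.centralizer ((ph hp k hs).range : Set ↥(D.group k)) := by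
  rw [Subgroup.mem_centralizer_iff]
  rintro _ ⟨B, rfl⟩
  exact (zz_comm hp hs B).symm

/-- an element of `L C(L)` commuting with `SL₂(3)` centralises `L` -/
theorem cent_of_LC {p : ℕ} {Γ : Subgroup (SL k)} (hΓ : XOK p Γ) (hinj : Function.Injective (ph hp k hs)) {w : ↥(D.group k)}
    (hw : w ∈ LC hp (k := k) hs) (hc : ∀ B ∈ Γ, w * ph hp k hs B = ph hp k hs B * w) :
    w ∈ Subgroup.centralizer ((ph hp k hs).range : Set ↥(D.group k)) := by
  obtain ⟨A, c, hcc, rfl⟩ := (mem_LC hp hs).1 hw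
  have hcB : ∀ B : SL k, c * ph hp k hs B = ph hp k hs B * c := fun B =>
    ((Subgroup.mem_centralizer_iff.1 hcc) _ ⟨B, rfl⟩).symm
  have h1 : ∀ B ∈ Γ, A * B = B * A := by
    intro B hB
    apply hinj
    rw [map_mul, map_mul]
    have h3 := hc B hB
    rw [mul_assoc, hcB, ← mul_assoc, ← mul_assoc] at h3
    exact mul_right_cancel h3
  rcases hΓ.cent A h1 with rfl | rfl
  · rwa [map_one, one_mul]
  · exact mul_mem (zz_cent hp hs) hcc

/-- elements of odd order commuting with `SL₂(3)` centralise `L` -/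
theorem cent_of_odd [IsAlgClosed k] (h2 : (2 : k) ≠ 0) (p : ℕ) [Fact p.Prime] [CharP k p] (hk : LocFin k)
    {Γ : Subgroup (SL k)} (hΓ : XOK p Γ) (hg : good D s = true) (hl : lng D s = true) {w : ↥(D.group k)} {m : ℕ} (hm : Odd m)
    (hwm : w ^ m = 1) (hc : ∀ B ∈ Γ, w * ph hp k hs B = ph hp k hs B * w) :
    w ∈ Subgroup.centralizer ((ph hp k hs).range : Set ↥(D.group k)) :=
  cent_of_LC hp hs hΓ (good_inj hp hs hg hl h2) (mem_LC_of_comm hp hs h2 p hk hg (hc _ hΓ.neg) hm hwm) hc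

/-! ### two fundamental subgroups -/

/-- If the subgroups `SL₂(3)` of `L_s` and `g L_s' g⁻¹` satisfy the conclusion of THEOREM 60, then `z_s` centralises
`g L_s' g⁻¹`. -/
theorem zz_cent_of_comm [IsAlgClosed k] (h2 : (2 : k) ≠ 0) (p : ℕ) [Fact p.Prime] [CharP k p] (hk : LocFin k)
    {Γ : Subgroup (SL k)} (hΓ : XOK p Γ) {s' : ℕ} (hs' : s' < D.nroots) (hg : good D s' = true) (hl : lng D s' = true)
    {g : ↥(D.group k)} (h1 : ∀ B ∈ Γ, zz hp (k := k) hs * (g * ph hp k hs' B * g⁻¹) = g * ph hp k hs' B * g⁻¹ * zz hp hs)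
    (h1' : ∀ B ∈ Γ, g * zz hp (k := k) hs' * g⁻¹ * ph hp k hs B = ph hp k hs B * (g * zz hp hs' * g⁻¹)) :
    g⁻¹ * zz hp (k := k) hs * g ∈ Subgroup.centralizer ((ph hp k hs').range : Set ↥(D.group k)) := by
  have h3 : Γ ≤ ((LC hp (k := k) hs').comap (MulAut.conj g⁻¹).toMonoidHom).comap (ph hp k hs) := by
    refine hΓ.three.trans ((Subgroup.closure_le _).2 ?_)
    rintro A ⟨hA, hA3⟩
    show g⁻¹ * ph hp k hs A * g⁻¹⁻¹ ∈ LC hp (k := k) hs'
    refine mem_LC_of_comm hp hs' h2 p hk hg ?_ (m := 3) (by decide) ?_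
    · have h4 := h1' A hA
      calc g⁻¹ * ph hp k hs A * g⁻¹⁻¹ * zz hp hs' = g⁻¹ * (ph hp k hs A * (g * zz hp hs' * g⁻¹)) * g := by group
        _ = g⁻¹ * (g * zz hp hs' * g⁻¹ * ph hp k hs A) * g := by rw [h4]
        _ = _ := by group
    · rw [conj_pow, ← map_pow, hA3, map_one]; group
  have h4 : g⁻¹ * zz hp (k := k) hs * g ∈ LC hp (k := k) hs' := by
    have h5 : g⁻¹ * zz hp (k := k) hs * g⁻¹⁻¹ ∈ LC hp (k := k) hs' := h3 hΓ.neg
    rwa [inv_inv] at h5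
  refine cent_of_LC hp hs' hΓ (good_inj hp hs' hg hl h2) h4 fun B hB => ?_
  have h5 := h1 B hB
  calc g⁻¹ * zz hp hs * g * ph hp k hs' B = g⁻¹ * (zz hp hs * (g * ph hp k hs' B * g⁻¹)) * g := by group
    _ = g⁻¹ * (g * ph hp k hs' B * g⁻¹ * zz hp hs) * g := by rw [h5]
    _ = _ := by group

end Cfsg.Agent.H971.RV
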