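import Mathlib

/-!
# TEAM RV, row R5 (`2, 3 ∈ π`, `p ∉ π`) for `F₄, E₆, ²E₆, E₇, E₈`: the frame argument (helper971)

`H` is a finite group with a "frame" `K 0, …, K (m-1)` of pairwise commuting subgroups (`SL₂(3)`'s in commuting
fundamental `SL₂(k)`'s `L i`), with central involutions `z i`.  The hypothesis `key` (from THEOREM 60 on `[V, c]`) says that
a nontrivial `c ∈ H` which centralises `L i` and a conjugate `L j ^ g` forces `z i` to centralise `L j ^ g` and
`z j ^ g` to centralise `L i`.  If the `3`-part of `|H|` is too large this is impossible.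
-/

set_option autoImplicit false

namespace Cfsg.Agent.H971.RV

open Subgroup MulAut

variable {H : Type*} [Group H]

/-- The data of a frame in `H`.  `Z c i g` : `c` centralises the conjugate `g L i g⁻¹` of the `i`-th fundamental
`SL₂(k)`. -/
structure Frame (H : Type*) [Group H] (m : ℕ) where
  K : Fin m → Subgroup H
  z : Fin m → H
  Z : H → Fin m → H → Prop
  z_ne : ∀ i, z i ≠ 1
  inj : Function.Injective z
  zK : ∀ i j, ∀ a ∈ K j, z i * a = a * z i
  Zconj : ∀ c i g y, Z c i g → Z (y * c * y⁻¹) i (y * g)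
  Zz : ∀ i j, Z (z j) i 1
  Zthree : ∀ c i, (∃ n : ℕ, c ^ 3 ^ n = 1) → (∀ a ∈ K i, c * a = a * c) → Z c i 1
  key : ∀ c : H, c ≠ 1 → ∀ i j g, Z c i 1 → Z c j g → Z (z i) j g ∧ Z (g * z j * g⁻¹) i 1
  inv : ∀ j g, (∀ k, Z (g * z j * g⁻¹) k 1) → ∃ k, g * z j * g⁻¹ = z k

namespace Frame

variable {m : ℕ} (F : Frame H m)

/-- Step (4), first half: if `c ≠ 1` centralises `L i` and `L j ^ g` then `z j ^ g` is one of the `z k`. -/
theorem mem_of_key {c : H} (hc : c ≠ 1) {i j : Fin m} {g : H} (h1 : F.Z c i 1) (h2 : F.Z c j g) :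
    ∃ k, g * F.z j * g⁻¹ = F.z k := by
  obtain ⟨h3, h4⟩ := F.key c hc i j g h1 h2
  exact F.inv j g fun k => (F.key (F.z i) (F.z_ne i) k j g (F.Zz k i) h3).2

theorem all_of_key {c : H} (hc : c ≠ 1) {i j : Fin m} {g : H} (h1 : F.Z c i 1) (h2 : F.Z c j g) (l : Fin m) :
    ∃ k, g * F.z l * g⁻¹ = F.z k := by
  obtain ⟨k, hk⟩ := F.mem_of_key hc h1 h2
  -- `c' = z j ^ g = z k` centralises all `L i` and `L l ^ g`
  refine F.mem_of_key (c := g * F.z j * g⁻¹) (i := k) (by rw [hk]; exact F.z_ne k) ?_ ?_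
  · rw [hk]; exact F.Zz k k
  · have h3 := F.Zconj (F.z j) l 1 g (F.Zz l j)
    rwa [mul_one] at h3

/-- the stabiliser of the set of the `z i` -/
def stab (F : Frame H m) : Subgroup H where
  carrier := {g | ∀ l, ∃ k, g * F.z l * g⁻¹ = F.z k}
  mul_mem' {a b} ha hb := by
    intro l
    obtain ⟨k, hk⟩ := hb l
    obtain ⟨k', hk'⟩ := ha k
    exact ⟨k', by rw [← hk', ← hk]; group⟩
  one_mem' := fun l => ⟨l, by group⟩
  inv_mem' {a} ha := by
    classical
    have hex : ∀ l, ∃ k, a * F.z l * a⁻¹ = F.z k := ha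
    choose f hf using hex
    have hinj : Function.Injective f := by
      intro x y hxy
      apply F.inj
      have h1 : a * F.z x * a⁻¹ = a * F.z y * a⁻¹ := by rw [hf, hf, hxy]
      exact mul_left_cancel (mul_right_cancel h1)
    have hsur : Function.Surjective f := Finite.surjective_of_injective hinj
    intro l
    obtain ⟨k, hk⟩ := hsur l
    exact ⟨k, by rw [← hk, ← hf k]; group⟩

theorem mem_stab {g : H} : g ∈ F.stab ↔ ∀ l, ∃ k, g * F.z l * g⁻¹ = F.z k := Iff.rfl

/-- Step (4): two different frames `F`, `F ^ g` have no common nontrivial centralising element. -/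
theorem mem_stab_of_key {c : H} (hc : c ≠ 1) {i j : Fin m} {g : H} (h1 : F.Z c i 1) (h2 : F.Z c j g) :
    g ∈ F.stab := fun l => F.all_of_key hc h1 h2 l

/-- the action of the stabiliser on the indices -/
noncomputable def act (F : Frame H m) (g : F.stab) (l : Fin m) : Fin m := (F.mem_stab.mp g.2 l).choose

theorem act_spec (g : F.stab) (l : Fin m) : (g : H) * F.z l * (g : H)⁻¹ = F.z (F.act g l) :=
  (F.mem_stab.mp g.2 l).choose_spec

noncomputable instance : MulAction F.stab (Fin m) where
  smul g l := F.act g l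
  one_smul l := by
    show F.act 1 l = l
    apply F.inj
    rw [← F.act_spec]
    simp
  mul_smul a b l := by
    show F.act (a * b) l = F.act a (F.act b l)
    apply F.inj
    rw [← F.act_spec, ← F.act_spec, ← F.act_spec]
    simp only [Subgroup.coe_mul]
    group

theorem smul_spec (g : F.stab) (l : Fin m) : (g : H) * F.z l * (g : H)⁻¹ = F.z (g • l) := F.act_spec g l

/-- iterating the hypothesis on `3`-groups which centralise one `z i` -/
theorem card_le_pow [Finite H] (hA : ∀ i, ∀ Q : Subgroup H, IsPGroup 3 Q → Q ≤ centralizer {F.z i} →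
      Nat.card Q ≤ 3 * Nat.card ↥(Q ⊓ centralizer (F.K i : Set H)))
    (Q : Subgroup H) (hQ : IsPGroup 3 Q) (hz : ∀ i, Q ≤ centralizer {F.z i}) (s : Finset (Fin m)) :
    ∃ Q' : Subgroup H, Q' ≤ Q ∧ (∀ i ∈ s, Q' ≤ centralizer (F.K i : Set H)) ∧
      Nat.card Q ≤ 3 ^ s.card * Nat.card Q' := by
  classical
  induction s using Finset.induction_on with
  | empty => exact ⟨Q, le_rfl, by simp, by simp⟩
  | insert i s hi ih =>
    obtain ⟨Q', h1, h2, h3⟩ := ih
    refine ⟨Q' ⊓ centralizer (F.K i : Set H), inf_le_left.trans h1, ?_, ?_⟩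
    · intro j hj
      rcases Finset.mem_insert.mp hj with rfl | hj
      · exact inf_le_right
      · exact inf_le_left.trans (h2 j hj)
    · have h4 := hA i Q' (hQ.to_le h1) (h1.trans (hz i))
      rw [Finset.card_insert_of_notMem hi, pow_succ]
      calc Nat.card Q ≤ 3 ^ s.card * Nat.card Q' := h3
        _ ≤ 3 ^ s.card * (3 * Nat.card ↥(Q' ⊓ centralizer (F.K i : Set H))) := Nat.mul_le_mul_left _ h4
        _ = _ := by ring

/-- The frame argument. -/
theorem false_of_card [Finite H] (hm : ¬ 3 ∣ m) (c₀ : ℕ)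
    (hA : ∀ i, ∀ Q : Subgroup H, IsPGroup 3 Q → Q ≤ centralizer {F.z i} →
      Nat.card Q ≤ 3 * Nat.card ↥(Q ⊓ centralizer (F.K i : Set H)))
    (hC : ∀ Q : Subgroup H, IsPGroup 3 Q → (∀ i, Q ≤ centralizer (F.K i : Set H)) → Nat.card Q ≤ c₀)
    (hY : ∃ Y : Subgroup H, IsPGroup 3 Y ∧ Y ≤ F.stab ∧ 9 < Nat.card Y)
    (hcard : 3 ^ (m.factorial.factorization 3) * (3 ^ m * c₀) < 3 ^ ((Nat.card H).factorization 3)) : False := by
  classical
  have : Fact (Nat.Prime 3) := ⟨Nat.prime_three⟩
  obtain ⟨Y, hYp, hYs, hY9⟩ := hY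
  -- a Sylow subgroup of the stabiliser containing `Y`
  have hYp' : IsPGroup 3 (Y.subgroupOf F.stab) :=
    hYp.comap_of_injective F.stab.subtype F.stab.subtype_injective
  obtain ⟨P, hYP⟩ := hYp'.exists_le_sylow
  set R : Subgroup H := (P : Subgroup F.stab).map F.stab.subtype with hRdef
  have hRp : IsPGroup 3 R := P.isPGroup'.map _
  have hRs : R ≤ F.stab := by
    rintro _ ⟨a, -, rfl⟩; exact a.2
  have hYR : Y ≤ R := by
    intro y hy
    exact ⟨⟨y, hYs hy⟩, hYP (by simpa [mem_subgroupOf] using hy), rfl⟩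
  have hR9 : 9 < Nat.card R := lt_of_lt_of_le hY9 (Nat.card_le_card_of_injective _ (Subgroup.inclusion_injective hYR))
  have hRP : Nat.card R = Nat.card P := Subgroup.card_map_of_injective F.stab.subtype_injective
  -- upper bound for `|R|`
  have hub : Nat.card R ≤ 3 ^ (m.factorial.factorization 3) * (3 ^ m * c₀) := by
    let φ : P →* Equiv.Perm (Fin m) := (MulAction.toPermHom F.stab (Fin m)).comp (P : Subgroup F.stab).subtype
    have h1 : Nat.card P = Nat.card φ.range * Nat.card φ.ker := by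
      rw [← Subgroup.index_ker, mul_comm, Subgroup.card_mul_index]
    have h2 : Nat.card φ.range ≤ 3 ^ (m.factorial.factorization 3) := by
      have h21 : Nat.card φ.range ∣ m.factorial := by
        have := Subgroup.card_subgroup_dvd_card φ.range
        rwa [Nat.card_perm, Nat.card_fin] at this
      have h22 : IsPGroup 3 φ.range := by
        exact P.isPGroup'.of_surjective φ.rangeRestrict φ.rangeRestrict_surjective
      obtain ⟨n, hn⟩ := IsPGroup.iff_card.mp h22
      rw [hn] at h21 ⊢
      exact Nat.pow_le_pow_right (by norm_num)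
        ((Nat.prime_three.pow_dvd_iff_le_factorization (Nat.factorial_ne_zero m)).mp h21)
    have h3 : Nat.card φ.ker ≤ 3 ^ m * c₀ := by
      let Q : Subgroup H := φ.ker.map (F.stab.subtype.comp (P : Subgroup F.stab).subtype)
      have hQc : Nat.card Q = Nat.card φ.ker :=
        Subgroup.card_map_of_injective (F.stab.subtype_injective.comp (P : Subgroup F.stab).subtype_injective)
      have hQR : Q ≤ R := by
        rintro _ ⟨a, -, rfl⟩
        exact ⟨(a : F.stab), a.2, rfl⟩
      have hQp : IsPGroup 3 Q := hRp.to_le hQR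
      have hQz : ∀ i, Q ≤ centralizer {F.z i} := by
        rintro i _ ⟨a, ha, rfl⟩
        have ha' : (MulAction.toPermHom F.stab (Fin m)) (a : F.stab) = 1 := ha
        have h31 : ((a : F.stab) • i : Fin m) = i := by
          have := congrArg (fun e : Equiv.Perm (Fin m) => e i) ha'
          exact this
        have h32 := F.smul_spec (a : F.stab) i
        rw [h31] at h32
        rw [mem_centralizer_singleton_iff]
        show ((a : F.stab) : H) * F.z i = F.z i * ((a : F.stab) : H)
        calc ((a : F.stab) : H) * F.z i = (((a : F.stab) : H) * F.z i * ((a : F.stab) : H)⁻¹) * ((a : F.stab) : H) := by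
              group
          _ = _ := by rw [h32]
      obtain ⟨Q', h33, h34, h35⟩ := F.card_le_pow hA Q hQp hQz Finset.univ
      rw [Finset.card_univ, Fintype.card_fin] at h35
      rw [← hQc]
      exact h35.trans (Nat.mul_le_mul_left _ (hC Q' (hQp.to_le h33) (fun i => h34 i (Finset.mem_univ i))))
    rw [hRP, h1]
    exact Nat.mul_le_mul h2 h3
  -- an element of the normaliser of `R` outside the stabiliser
  obtain ⟨n, hn⟩ := IsPGroup.iff_card.mp hRp
  have hdvd : 3 ^ (n + 1) ∣ Nat.card H := by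
    rw [Nat.prime_three.pow_dvd_iff_le_factorization Nat.card_pos.ne']
    have h1 : 3 ^ n < 3 ^ ((Nat.card H).factorization 3) := by rw [← hn]; exact lt_of_le_of_lt hub hcard
    exact (Nat.pow_lt_pow_iff_right (by norm_num)).mp h1
  have hx : ∃ x ∈ normalizer (R : Set H), x ∉ F.stab := by
    by_contra hcon
    push Not at hcon
    have hle : normalizer (R : Set H) ≤ F.stab := hcon
    have h1 := Sylow.prime_dvd_card_quotient_normalizer hdvd hn
    have h2 : R.relIndex (normalizer (R : Set H)) ∣ R.relIndex F.stab :=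
      ⟨(normalizer (R : Set H)).relIndex F.stab,
        (Subgroup.relIndex_mul_relIndex _ _ _ le_normalizer hle).symm⟩
    have h3 : ¬ 3 ∣ R.relIndex F.stab := by
      have h31 : R.relIndex F.stab = (P : Subgroup F.stab).index := by
        rw [Subgroup.relIndex, hRdef]
        congr 1
        ext a
        simp [mem_subgroupOf]
      rw [h31]
      exact P.not_dvd_index
    apply h3
    refine dvd_trans ?_ h2
    exact h1
  obtain ⟨x, hxN, hxs⟩ := hx
  -- a fixed point
  have hfix : ∃ i : Fin m, ∀ r ∈ R, r * F.z i * r⁻¹ = F.z i := by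
    have h1 := IsPGroup.nonempty_fixed_point_of_prime_not_dvd_card P.isPGroup' (Fin m) (by rwa [Nat.card_fin])
    obtain ⟨i, hi⟩ := h1
    refine ⟨i, ?_⟩
    rintro _ ⟨a, ha, rfl⟩
    have h2 := hi ⟨a, ha⟩
    have h3 : (a • i : Fin m) = i := h2
    have h4 := F.smul_spec a i
    rw [h3] at h4
    exact h4
  obtain ⟨i, hi⟩ := hfix
  have hRz : R ≤ centralizer {F.z i} := by
    intro r hr
    rw [mem_centralizer_singleton_iff]
    calc r * F.z i = (r * F.z i * r⁻¹) * r := by group
      _ = _ := by rw [hi r hr]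
  have h9 := hA i R hRp hRz
  -- the subgroups of `R` commuting with `K i` and with `K i ^ x`
  set C : Subgroup H := centralizer (F.K i : Set H) with hCdef
  set Cx : Subgroup H := C.map (MulAut.conj x).toMonoidHom with hCx
  have hRx : R.map (MulAut.conj x).toMonoidHom = R := by
    have := mem_normalizer_iff.mp hxN
    ext r
    constructor
    · rintro ⟨s, hs, rfl⟩
      exact (this s).mp hs
    · intro hr
      refine ⟨x⁻¹ * r * x, (this _).mpr (by convert hr using 1; group), ?_⟩
      show x * (x⁻¹ * r * x) * x⁻¹ = r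
      group
  have hinjc : Function.Injective (MulAut.conj x).toMonoidHom := (MulAut.conj x).injective
  have hcardx : Nat.card ↥(R ⊓ Cx) = Nat.card ↥(R ⊓ C) := by
    have h1 : R ⊓ Cx = (R ⊓ C).map (MulAut.conj x).toMonoidHom := by
      rw [Subgroup.map_inf _ _ _ hinjc, hRx]
    rw [h1]
    exact Subgroup.card_map_of_injective hinjc
  have hrel : ∀ D : Subgroup H, D.relIndex R * Nat.card ↥(R ⊓ D) = Nat.card R := by
    intro D
    have h1 : D.relIndex R = (R ⊓ D).relIndex R := by
      rw [inf_comm, Subgroup.inf_relIndex_right]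
    rw [h1, mul_comm]
    have h2 := Subgroup.card_mul_index ((R ⊓ D).subgroupOf R)
    rw [← Subgroup.relIndex, Nat.card_congr (Subgroup.subgroupOfEquivOfLe (inf_le_left : R ⊓ D ≤ R)).toEquiv] at h2
    exact h2
  have hpos : ∀ D : Subgroup H, 0 < Nat.card ↥(R ⊓ D) := fun D => Nat.card_pos
  have hC3 : C.relIndex R ≤ 3 := by
    have h1 := hrel C
    by_contra hlt
    push Not at hlt
    have := Nat.mul_lt_mul_of_pos_right hlt (hpos C)
    omega
  have hCx3 : Cx.relIndex R ≤ 3 := by
    have h1 := hrel Cx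
    rw [hcardx] at h1
    by_contra hlt
    push Not at hlt
    have := Nat.mul_lt_mul_of_pos_right hlt (hpos C)
    omega
  have hinf : (C ⊓ Cx).relIndex R ≤ 9 := by
    calc (C ⊓ Cx).relIndex R ≤ C.relIndex R * Cx.relIndex R := Subgroup.relIndex_inf_le
      _ ≤ 3 * 3 := Nat.mul_le_mul hC3 hCx3
      _ = 9 := by norm_num
  have hne : R ⊓ (C ⊓ Cx) ≠ ⊥ := by
    intro hbot
    have h1 := hrel (C ⊓ Cx)
    rw [hbot, Subgroup.card_bot, mul_one] at h1
    omega
  obtain ⟨c, hc1'⟩ := Subgroup.ne_bot_iff_exists_ne_one.mp hne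
  have hc := c.2
  have hc1 : (c : H) ≠ 1 := fun h => hc1' (Subtype.ext h)
  apply hxs
  obtain ⟨n3, hn3⟩ := hRp ⟨(c : H), hc.1⟩
  have hcn : (c : H) ^ 3 ^ n3 = 1 := congrArg Subtype.val hn3
  refine F.mem_stab_of_key (c := (c : H)) hc1 (i := i) (j := i) (F.Zthree _ _ ⟨n3, hcn⟩ ?_) ?_
  · intro a ha
    exact ((mem_centralizer_iff.mp hc.2.1) a ha).symm
  · obtain ⟨d, hd, hdc⟩ := hc.2.2
    have h2 : x * d * x⁻¹ = (c : H) := hdc
    have h3 : d ^ 3 ^ n3 = 1 := by
      rw [← h2, conj_pow] at hcn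
      calc d ^ 3 ^ n3 = x⁻¹ * (x * d ^ 3 ^ n3 * x⁻¹) * x := by group
        _ = 1 := by rw [hcn]; group
    have h4 := F.Zconj d i 1 x (F.Zthree d i ⟨n3, h3⟩ fun a ha => ((mem_centralizer_iff.mp hd) a ha).symm)
    rw [mul_one, h2] at h4
    exact h4

end Frame

end Cfsg.Agent.H971.RV
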