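import Cfsg.Agent.H971.RV.Cen
import Cfsg.Agent.H971.RV.Frame

/-!
# TEAM RV, row R5 for `F₄, E₆, ²E₆, E₇, E₈`: the frame of a `p'`-group containing the `SL₂(3)`'s (helper971)
-/

set_option autoImplicit false
set_option linter.unusedSectionVars false

namespace Cfsg.Agent.H971.RV

open CoxeterSystem Cfsg Cfsg.Lie Cfsg.Lie.ChevalleyDatum
open Cfsg.Agent.ChevalleyStructure Cfsg.Agent.ChevalleyStructure.Elts Cfsg.Agent.ChevalleyStructure.CoxeterGeom
  Cfsg.Agent.ChevalleyStructure.CoxeterGeomTypes Cfsg.Agent.ChevalleyStructure.NPerm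
open Cfsg.Agent.Tits.Roots Cfsg.Agent.Tits.Core Cfsg.Agent.Nodes Cfsg.Agent.Nodes.Reps Cfsg.Agent.Nodes.BNOf
  Cfsg.Agent.Nodes.RGDChev Cfsg.Agent.Nodes.Bruhat Cfsg.Agent.Nodes.NormalForm
open Cfsg.Agent.KFacts.RgdField Cfsg.Agent.KFacts.RgdChevCoord
open Cfsg.Agent.BpExc Cfsg.Agent.BpExc.TorCent Cfsg.Agent.BpExc.TorChev Cfsg.Agent.BpExc.Tow
  Cfsg.Agent.BpExc.TowChev Cfsg.Agent.BpExc.Fr Cfsg.Agent.BpExc.Pair Cfsg.Agent.BpExc.LangFr Cfsg.Agent.GpExc.Field
  Cfsg.Agent.BpExc.TorAll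
open Cfsg.Agent.H469.Exc Cfsg.Agent.H469.Exc.SigFr
open Cfsg.Agent.Nodes.RGDFoldSL
open Cfsg.Agent.H167.EX Cfsg.Agent.H512.LinFour.IdealF
open Module

universe u v

/-- what is needed about a frame of roots: combinatorics of the datum and of `SL₂(3)` -/
structure FrOK {D : ChevalleyDatum} {l : ℕ} {M : CoxeterMatrix (Fin l)} (hp : IsType D l M) (k : Type u) [Field k]
    (p : ℕ) {m : ℕ} (s : Fin m → ℕ) (hs : ∀ i, s i < D.nroots) (Γ : Subgroup (SL k)) : Prop where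
  lac : Lac D
  good : ∀ i, good D (s i) = true
  lng : ∀ i, lng D (s i) = true
  inj : Function.Injective s
  ort : ∀ i j, i ≠ j → ∀ A B : SL k, ph hp k (hs i) A * ph hp k (hs j) B = ph hp k (hs j) B * ph hp k (hs i) A
  xok : XOK p Γ
  inv : ∀ (g : ↥(D.group k)) (j : Fin m), (∀ i, g * zz hp (k := k) (hs j) * g⁻¹ ∈
    Subgroup.centralizer ((ph hp k (hs i)).range : Set ↥(D.group k))) → ∃ i, g * zz hp (k := k) (hs j) * g⁻¹ = zz hp (hs i)
  zinj : ∀ i j, zz hp (k := k) (hs i) = zz hp (hs j) → i = j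

variable {D : ChevalleyDatum} {l : ℕ} {M : CoxeterMatrix (Fin l)} {hp : IsType D l M} {k : Type u} [Field k] {p : ℕ}
  {m : ℕ} {s : Fin m → ℕ} {hs : ∀ i, s i < D.nroots} {Γ : Subgroup (SL k)}

theorem two_ne [Fact p.Prime] [CharP k p] (h5 : 5 ≤ p) : (2 : k) ≠ 0 := by
  intro h
  have h3 : p ∣ 2 := (CharP.cast_eq_zero_iff k p 2).1 (by exact_mod_cast h)
  have := Nat.le_of_dvd (by norm_num) h3
  omega

/-- from elements of order 6 to all of `SL₂(3)` -/
theorem comm_of_six {x g : ↥(D.group k)} (hΓ : XOK p Γ) {i : Fin m}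
    (h : ∀ A ∈ Γ, Six A → x * (g * ph hp k (hs i) A * g⁻¹) = g * ph hp k (hs i) A * g⁻¹ * x) :
    ∀ B ∈ Γ, x * (g * ph hp k (hs i) B * g⁻¹) = g * ph hp k (hs i) B * g⁻¹ * x := by
  have h3 : Γ ≤ ((Subgroup.centralizer {x}).comap (MulAut.conj g).toMonoidHom).comap (ph hp k (hs i)) := by
    refine hΓ.six.trans ((Subgroup.closure_le _).2 ?_)
    rintro A ⟨hA, hA6⟩
    show g * ph hp k (hs i) A * g⁻¹ ∈ Subgroup.centralizer {x}
    rw [Subgroup.mem_centralizer_singleton_iff]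
    exact (h A hA hA6).symm
  intro B hB
  have h4 : g * ph hp k (hs i) B * g⁻¹ ∈ Subgroup.centralizer {x} := h3 hB
  rw [Subgroup.mem_centralizer_singleton_iff] at h4
  exact h4.symm

/-- **The consequence of THEOREM 60.** -/
theorem pair_key [IsAlgClosed k] [Fact p.Prime] [CharP k p] (h5 : 5 ≤ p) (hk : LocFin k) (O : FrOK hp k p s hs Γ)
    (Y : Subgroup ↥(D.group k)) [Finite Y] (hY : ¬ p ∣ Nat.card Y) {c g : ↥(D.group k)} (hc : c ∈ Y) (hc1 : c ≠ 1)
    {i j : Fin m} (hKi : ∀ A ∈ Γ, ph hp k (hs i) A ∈ Y) (hKj : ∀ A ∈ Γ, g * ph hp k (hs j) A * g⁻¹ ∈ Y)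
    (h1 : c ∈ Subgroup.centralizer ((ph hp k (hs i)).range : Set ↥(D.group k)))
    (h1' : g⁻¹ * c * g ∈ Subgroup.centralizer ((ph hp k (hs j)).range : Set ↥(D.group k))) :
    g⁻¹ * zz hp (k := k) (hs i) * g ∈ Subgroup.centralizer ((ph hp k (hs j)).range : Set ↥(D.group k)) ∧
    g * zz hp (k := k) (hs j) * g⁻¹ ∈ Subgroup.centralizer ((ph hp k (hs i)).range : Set ↥(D.group k)) := by
  have h2 : (2 : k) ≠ 0 := two_ne h5
  have hinfk : Infinite k := IsAlgClosed.instInfinite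
  let X : Subgroup ↥(D.group k) := Y ⊓ Subgroup.centralizer {c}
  have hXY : X ≤ Y := inf_le_left
  have hXfin : Finite X := Finite.of_injective _ (Subgroup.inclusion_injective hXY)
  have hX : ¬ p ∣ Nat.card X := fun h => hY (h.trans (Subgroup.card_dvd_of_le hXY))
  have hcX : c ∈ X := ⟨hc, Subgroup.mem_centralizer_singleton_iff.2 rfl⟩
  have hXc : ∀ x ∈ X, x * c = c * x := fun x hx => Subgroup.mem_centralizer_singleton_iff.1 hx.2
  have hcB : ∀ B : SL k, c * ph hp k (hs i) B = ph hp k (hs i) B * c := fun B =>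
    ((Subgroup.mem_centralizer_iff.1 h1) _ ⟨B, rfl⟩).symm
  have hcB' : ∀ B : SL k, c * (g * ph hp k (hs j) B * g⁻¹) = g * ph hp k (hs j) B * g⁻¹ * c := by
    intro B
    have h3 := ((Subgroup.mem_centralizer_iff.1 h1') _ ⟨B, rfl⟩).symm
    calc c * (g * ph hp k (hs j) B * g⁻¹) = g * ((g⁻¹ * c * g) * ph hp k (hs j) B) * g⁻¹ := by group
      _ = g * (ph hp k (hs j) B * (g⁻¹ * c * g)) * g⁻¹ := by rw [h3]
      _ = _ := by group
  have hmem : ∀ A ∈ Γ, ph hp k (hs i) A ∈ X := fun A hA =>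
    ⟨hKi A hA, Subgroup.mem_centralizer_singleton_iff.2 (hcB A).symm⟩
  have hmem' : ∀ A ∈ Γ, g * ph hp k (hs j) A * g⁻¹ ∈ X := fun A hA =>
    ⟨hKj A hA, Subgroup.mem_centralizer_singleton_iff.2 (hcB' A).symm⟩
  have hsix : ∀ A, Six A → ∀ v, rho D k c (mm (ph hp k (hs i) A) v) = mm (ph hp k (hs i) A) v := by
    rintro A ⟨P, ζ, hζ, hA⟩ v
    have h3 := six hp (hs i) O.lac h2 (O.lng i) (c := c) (g := 1) (by rw [inv_one, one_mul, mul_one]; exact h1) hζ hA v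
    rw [one_mul, inv_one, mul_one] at h3
    exact h3
  have hsix' : ∀ A, Six A → ∀ v, rho D k c (mm (g * ph hp k (hs j) A * g⁻¹) v) = mm (g * ph hp k (hs j) A * g⁻¹) v := by
    rintro A ⟨P, ζ, hζ, hA⟩ v
    exact six hp (hs j) O.lac h2 (O.lng j) h1' hζ hA v
  have hcube : ∀ A, Six A → (ph hp k (hs i) A) ^ 3 = zz hp (hs i) := by
    intro A hA
    rw [← map_pow, hA.cube]; rfl
  have hcube' : ∀ A, Six A → (g * ph hp k (hs j) A * g⁻¹) ^ 3 = g * zz hp (hs j) * g⁻¹ := by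
    intro A hA
    rw [conj_pow, ← map_pow, hA.cube]; rfl
  -- some element of order 6
  obtain ⟨A₀, hA₀, hA₀6⟩ : ∃ A ∈ Γ, Six A := by
    by_contra hcon
    push Not at hcon
    have h3 : {A | A ∈ Γ ∧ Six A} = ∅ := by
      ext A
      simp only [Set.mem_ofPred_eq, Set.mem_empty_iff_false, iff_false, not_and]
      exact hcon A
    have h4 := O.xok.six
    rw [h3, Subgroup.closure_empty] at h4
    have h6 := O.xok.three_dvd
    rw [le_bot_iff.1 h4, Subgroup.card_bot] at h6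
    norm_num at h6
  have e1 : ∀ B ∈ Γ, zz hp (k := k) (hs i) * (g * ph hp k (hs j) B * g⁻¹) = g * ph hp k (hs j) B * g⁻¹ * zz hp (hs i) := by
    refine comm_of_six O.xok fun A hA hA6 => ?_
    rw [← hcube A₀ hA₀6]
    exact key_comm p h5 O.lac hc1 X hX hcX hXc (hmem A₀ hA₀) (hmem' A hA) (hsix A₀ hA₀6) (hsix' A hA6)
  have e2 : ∀ B ∈ Γ, g * zz hp (k := k) (hs j) * g⁻¹ * ph hp k (hs i) B = ph hp k (hs i) B * (g * zz hp (hs j) * g⁻¹) := by
    have h3 : ∀ B ∈ Γ, g * zz hp (k := k) (hs j) * g⁻¹ * (1 * ph hp k (hs i) B * 1⁻¹) =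
        1 * ph hp k (hs i) B * 1⁻¹ * (g * zz hp (hs j) * g⁻¹) := by
      refine comm_of_six O.xok fun A hA hA6 => ?_
      rw [one_mul, inv_one, mul_one, ← hcube' A₀ hA₀6]
      exact key_comm p h5 O.lac hc1 X hX hcX hXc (hmem' A₀ hA₀) (hmem A hA) (hsix' A₀ hA₀6) (hsix A hA6)
    intro B hB
    have h4 := h3 B hB
    rwa [one_mul, inv_one, mul_one] at h4
  refine ⟨zz_cent_of_comm hp (hs i) h2 p hk O.xok (hs j) (O.good j) (O.lng j) e1 e2, ?_⟩
  have h3 := zz_cent_of_comm hp (hs j) h2 p hk O.xok (hs i) (O.good i) (O.lng i) (g := g⁻¹) (fun B hB => ?_) fun B hB => ?_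
  · rwa [inv_inv] at h3
  · have h4 := e2 B hB
    calc zz hp (hs j) * (g⁻¹ * ph hp k (hs i) B * g⁻¹⁻¹) = g⁻¹ * (g * zz hp (hs j) * g⁻¹ * ph hp k (hs i) B) * g := by group
      _ = g⁻¹ * (ph hp k (hs i) B * (g * zz hp (hs j) * g⁻¹)) * g := by rw [h4]
      _ = _ := by group
  · have h4 := e1 B hB
    calc g⁻¹ * zz hp (hs i) * g⁻¹⁻¹ * ph hp k (hs j) B = g⁻¹ * (zz hp (hs i) * (g * ph hp k (hs j) B * g⁻¹)) * g := by group
      _ = g⁻¹ * (g * ph hp k (hs j) B * g⁻¹ * zz hp (hs i)) * g := by rw [h4]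
      _ = _ := by group

/-! ### the frame -/

section Fr

variable {H : Type v} [Group H] (f : H →* ↥(D.group k))

/-- `SL₂(3)` in `H` -/
noncomputable def KK (hp : IsType D l M) (hs : ∀ i, s i < D.nroots) (Γ : Subgroup (SL k)) (f : H →* ↥(D.group k)) (i : Fin m) :
    Subgroup H := (Γ.map (ph hp k (hs i))).comap f

theorem mem_KK {i : Fin m} {a : H} : a ∈ KK hp hs Γ f i ↔ ∃ A ∈ Γ, ph hp k (hs i) A = f a := Iff.rfl

variable [IsAlgClosed k] [Fact p.Prime] [CharP k p] (h5 : 5 ≤ p) (hk : LocFin k) (O : FrOK hp k p s hs Γ)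
  [Finite H] (hf : Function.Injective f) (hH : ¬ p ∣ Nat.card H) (hK : ∀ i, ∀ A ∈ Γ, ph hp k (hs i) A ∈ f.range)

/-- the involutions -/
noncomputable def zH (O : FrOK hp k p s hs Γ) (hK : ∀ i, ∀ A ∈ Γ, ph hp k (hs i) A ∈ f.range) (i : Fin m) : H :=
  (hK i _ O.xok.neg).choose

theorem f_zH (i : Fin m) : f (zH f O hK i) = zz hp (hs i) := (hK i _ O.xok.neg).choose_spec

include O in
theorem zz_cent_all (i j : Fin m) : zz hp (k := k) (hs j) ∈ Subgroup.centralizer ((ph hp k (hs i)).range : Set ↥(D.group k)) := by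
  by_cases h : i = j
  · subst h; exact zz_cent hp (hs i)
  · rw [Subgroup.mem_centralizer_iff]
    rintro _ ⟨B, rfl⟩
    exact O.ort i j h B (hS (-1))

/-- **The frame.** -/
noncomputable def frame : Frame H m where
  K := KK hp hs Γ f
  z := zH f O hK
  Z c i g := (f g)⁻¹ * f c * f g ∈ Subgroup.centralizer ((ph hp k (hs i)).range : Set ↥(D.group k))
  z_ne i := by
    intro h
    have h1 := f_zH f O hK i
    rw [h, map_one] at h1
    have h3 := good_inj hp (hs i) (O.good i) (O.lng i) (two_ne h5 : (2 : k) ≠ 0) ((map_one (ph hp k (hs i))).trans h1)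
    have h4 := congrArg (fun X : SL k => X.1 0 0) h3
    have h7 : (hS (-1 : k)).1 0 0 = -1 :=
      congrFun (congrFun (coe_hS (t := (-1 : k)) (neg_ne_zero.2 one_ne_zero)) 0) 0
    have h8 : (1 : k) = (hS (-1 : k)).1 0 0 := h4
    have h6 : (1 : k) = -1 := h8.trans h7
    exact (two_ne h5 : (2 : k) ≠ 0) (by linear_combination h6)
  inj i j h := by
    refine O.zinj i j ?_
    rw [← f_zH f O hK i, ← f_zH f O hK j, h]
  zK i j a ha := by
    obtain ⟨A, -, hA⟩ := mem_KK f |>.1 ha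
    apply hf
    rw [map_mul, map_mul, f_zH, ← hA]
    exact ((Subgroup.mem_centralizer_iff.1 (zz_cent_all O j i)) _ ⟨A, rfl⟩).symm
  Zconj c i g y h := by
    have h1 : (f (y * g))⁻¹ * f (y * c * y⁻¹) * f (y * g) = (f g)⁻¹ * f c * f g := by
      simp only [map_mul, map_inv]; group
    rw [h1]
    exact h
  Zz i j := by
    rw [map_one, inv_one, one_mul, mul_one, f_zH]
    exact zz_cent_all O i j
  Zthree c i hc h := by
    obtain ⟨n, hn⟩ := hc
    rw [map_one, inv_one, one_mul, mul_one]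
    refine cent_of_odd hp (hs i) (two_ne h5) p hk O.xok (O.good i) (O.lng i) (m := 3 ^ n) (Odd.pow (by decide)) ?_ ?_
    · rw [← map_pow, hn, map_one]
    · intro B hB
      obtain ⟨b, hb⟩ := hK i B hB
      rw [← hb, ← map_mul, ← map_mul, h b ((mem_KK f).2 ⟨B, hB, hb.symm⟩)]
  key c hc i j g h1 h2 := by
    rw [map_one, inv_one, one_mul, mul_one] at h1 ⊢
    have hfin : Finite f.range := Set.finite_range f
    have hcard : ¬ p ∣ Nat.card f.range := by
      rw [Nat.card_congr (MonoidHom.ofInjective hf).toEquiv.symm]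
      exact hH
    have h3 := pair_key h5 hk O f.range hcard (c := f c) (g := f g) ⟨c, rfl⟩
      (fun h => hc (hf (by rw [h, map_one]))) (hK i) (fun A hA => mul_mem (mul_mem ⟨g, rfl⟩ (hK j A hA))
        (inv_mem ⟨g, rfl⟩)) h1 h2
    rw [map_mul, map_mul, map_inv, f_zH, f_zH]
    exact h3
  inv j g h := by
    have h1 : ∀ i, f g * zz hp (k := k) (hs j) * (f g)⁻¹ ∈ Subgroup.centralizer ((ph hp k (hs i)).range : Set ↥(D.group k)) := by
      intro i
      have h3 := h i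
      rw [map_one, inv_one, one_mul, mul_one, map_mul, map_mul, map_inv, f_zH] at h3
      exact h3
    obtain ⟨i, hi⟩ := O.inv (f g) j h1
    refine ⟨i, hf ?_⟩
    rw [map_mul, map_mul, map_inv, f_zH, f_zH]
    exact hi

end Fr

end Cfsg.Agent.H971.RV
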