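import Cfsg.Agent.H971.RV.RowsB
import Cfsg.Agent.H167.EX.OneB

/-!
# TEAM RV, row R5 for `F₄, E₆, ²E₆, E₇, E₈`: the combinatorial data of the frame (helper971)
-/

set_option autoImplicit false
set_option linter.unusedSectionVars false

namespace Cfsg.Agent.H971.RV

open CoxeterSystem Cfsg Cfsg.Lie Cfsg.Lie.ChevalleyDatum
open Cfsg.Agent.ChevalleyStructure Cfsg.Agent.ChevalleyStructure.Elts Cfsg.Agent.ChevalleyStructure.CoxeterGeom
  Cfsg.Agent.ChevalleyStructure.CoxeterGeomTypes Cfsg.Agent.ChevalleyStructure.NPerm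
open Cfsg.Agent.ChevalleyStructure.RootVec
open Cfsg.Agent.Tits.Roots Cfsg.Agent.Tits.Core Cfsg.Agent.Nodes Cfsg.Agent.Nodes.Reps Cfsg.Agent.Nodes.BNOf
  Cfsg.Agent.Nodes.RGDChev Cfsg.Agent.Nodes.Bruhat Cfsg.Agent.Nodes.NormalForm
open Cfsg.Agent.KFacts.RgdField Cfsg.Agent.KFacts.RgdChevCoord
open Cfsg.Agent.BpExc Cfsg.Agent.BpExc.TorCent Cfsg.Agent.BpExc.TorChev Cfsg.Agent.BpExc.Tow
  Cfsg.Agent.BpExc.TowChev Cfsg.Agent.BpExc.Fr Cfsg.Agent.BpExc.Pair Cfsg.Agent.BpExc.LangFr Cfsg.Agent.GpExc.Field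
  Cfsg.Agent.BpExc.TorAll
open Cfsg.Agent.H469.Exc Cfsg.Agent.H469.Exc.SigFr
open Cfsg.Agent.Nodes.RGDFoldSL
open Cfsg.Agent.H167.EX Cfsg.Agent.H129.TorusChar Cfsg.Agent.H512.LinFour.IdealF
open Module

universe u v

/-! ### the checks -/

/-- the pairing of a `0-1`-vector with a root -/
def pr (D : ChevalleyDatum) (l b r : ℕ) : ℤ := ((List.finRange l).map fun i : Fin l => if b.testBit i then rt D r i else 0).sum

/-- the trace of an involution of the torus -/
def trN (D : ChevalleyDatum) (l b : ℕ) : ℤ :=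
  (D.rank : ℤ) + ((List.finRange D.nroots).map fun r : Fin D.nroots => if pr D l b r % 2 = 0 then (1 : ℤ) else -1).sum

/-- the trace of `zz` -/
def trZ (D : ChevalleyDatum) (s : ℕ) : ℤ :=
  (D.rank : ℤ) + ((List.finRange D.nroots).map fun r : Fin D.nroots =>
    if HMatDiagAll.expo D s r % 2 = 0 then (1 : ℤ) else -1).sum

/-- the involutions of the torus centralising the frame -/
def chkInv (D : ChevalleyDatum) (l : ℕ) (L : List ℕ) (T0 : ℤ) : Bool :=
  (L.all fun s => decide (trZ D s = T0)) &&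
  ((List.range (2 ^ l)).all fun b => decide (b = 0) || (L.any fun s => decide (pr D l b s % 2 ≠ 0)) ||
    (L.any fun s => (List.finRange l).all fun j : Fin l =>
      decide (((if b.testBit j then 1 else 0) - HMatDiagAll.expo D s (D.simple j)) % 2 = 0)) ||
    decide ((trN D l b - T0) ∣ 96))

/-- the `z`'s are different -/
def chkZ (D : ChevalleyDatum) (L : List ℕ) : Bool :=
  L.all fun s => L.all fun s' => decide (s = s') || ((List.range D.nroots).any fun r =>
    decide ((HMatDiagAll.expo D s r - HMatDiagAll.expo D s' r) % 2 ≠ 0))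

/-- the roots are orthogonal -/
def chkO (D : ChevalleyDatum) (L : List ℕ) : Bool :=
  L.all fun b => L.all fun c => decide (b = c) || (decide (c ≠ D.neg b) && (D.commTerms b c).isEmpty &&
    (D.commTerms (D.neg b) c).isEmpty && (D.commTerms b (D.neg c)).isEmpty && (D.commTerms (D.neg b) (D.neg c)).isEmpty)

/-- all checks -/
def chkAll (D : ChevalleyDatum) (l : ℕ) (L : List ℕ) (T0 : ℤ) : Bool :=
  (L.all fun s => good D s && lng D s) && decide L.Nodup && chkO D L && chkInv D l L T0 && chkZ D L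

variable {D : ChevalleyDatum} {l : ℕ} {M : CoxeterMatrix (Fin l)} (hp : IsType D l M) {k : Type u} [Field k] {p : ℕ}

/-! ### involutions of the torus -/

theorem neg_one_zpow_eq (n : ℤ) : (-1 : k) ^ n = ((if n % 2 = 0 then (1 : ℤ) else -1 : ℤ) : k) := by
  split_ifs with h
  · rw [Even.neg_one_zpow (Int.even_iff.2 h), Int.cast_one]
  · rw [Odd.neg_one_zpow (Int.odd_iff.2 (by omega)), Int.cast_neg, Int.cast_one]

theorem neg_one_zpow_sum {ι : Type*} (s : Finset ι) (f : ι → ℤ) : ∏ i ∈ s, (-1 : k) ^ f i = (-1) ^ (∑ i ∈ s, f i) := by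
  classical
  induction s using Finset.induction_on with
  | empty => simp
  | insert a s ha ih => rw [Finset.prod_insert ha, Finset.sum_insert ha, ih, zpow_add₀ (neg_ne_zero.2 one_ne_zero)]

/-- the bits of an involution -/
theorem exists_bits {n : ↥(D.group k)} (hn : n ∈ TT D k) (h2 : n ^ 2 = 1) :
    ∃ b < 2 ^ l, ∀ r < D.nroots, ch hp (vec D l r) n = (-1) ^ pr D l b r := by
  classical
  have h3 : ∀ i : Fin l, ch hp (sr i) n = 1 ∨ ch hp (sr i) n = -1 := by
    intro i
    have h4 := cX_pow hp hn 2 (sr i)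
    rw [h2, cX_one, cX_sr] at h4
    exact mul_self_eq_one_iff.1 (by rw [← sq]; exact h4.symm)
  let f : Fin l → Bool := fun i => decide (ch hp (sr i) n ≠ 1)
  refine ⟨Nat.ofBits f, Nat.ofBits_lt_two_pow f, fun r hr => ?_⟩
  rw [← cX_vec hp hn hr]
  unfold cX
  have h5 : ∀ i : Fin l, ch hp (sr i) n ^ vec D l r i =
      (-1 : k) ^ (if (Nat.ofBits f).testBit i then rt D r i else 0) := by
    intro i
    rw [Nat.testBit_ofBits_lt f i i.2, vec_apply]
    rcases h3 i with h | h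
    · rw [h, one_zpow, if_neg (by simp [f, h]), zpow_zero]
    · by_cases h6 : ch hp (sr i) n = 1
      · rw [h6, one_zpow, if_neg (by simp [f, h6]), zpow_zero]
      · rw [if_pos (by simp [f, h6]), h]
  rw [Finset.prod_congr rfl fun i _ => h5 i, neg_one_zpow_sum, Fin.sum_univ_def]
  rfl

theorem trace_TT (hk : LocFin k) [Fact p.Prime] [CharP k p] {n : ↥(D.group k)} (hn : n ∈ TT D k) {f : ℕ → ℤ}
    (h : ∀ r < D.nroots, ch hp (vec D l r) n = (-1) ^ f r) :
    Matrix.trace ((n : GL D.Idx k) : Matrix D.Idx D.Idx k) =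
      (((D.rank : ℤ) + ((List.finRange D.nroots).map fun r : Fin D.nroots => if f r % 2 = 0 then (1 : ℤ) else -1).sum : ℤ) : k) := by
  rw [H892.El.coe_TT hp (r := p) hk hn, Matrix.trace_diagonal]
  unfold H892.El.dd
  rw [Fintype.sum_sum_type]
  simp only [Sum.elim_inl, Sum.elim_inr]
  rw [Finset.sum_const, Finset.card_univ, Fintype.card_fin, nsmul_eq_mul, mul_one, Int.cast_add, Int.cast_natCast,
    ← Fin.sum_univ_def, Int.cast_sum]
  congr 1
  refine Finset.sum_congr rfl fun r _ => ?_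
  rw [h r r.2, neg_one_zpow_eq]

theorem cast_ne [Fact p.Prime] [CharP k p] (h5 : 5 ≤ p) {a : ℤ} (h : a ∣ 96) : (a : k) ≠ 0 := by
  intro h0
  obtain ⟨c, hc⟩ := h
  have h1 : ((96 : ℤ) : k) = 0 := by rw [hc, Int.cast_mul, h0, zero_mul]
  have h2 : ((96 : ℕ) : k) = 0 := by exact_mod_cast h1
  rw [CharP.cast_eq_zero_iff k p] at h2
  have hpp : p.Prime := Fact.out
  rw [show 96 = 2 ^ 5 * 3 by norm_num, hpp.dvd_mul] at h2
  rcases h2 with h2 | h2
  · have := Nat.le_of_dvd (by norm_num) (hpp.dvd_of_dvd_pow h2)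
    omega
  · have := Nat.le_of_dvd (by norm_num) h2
    omega

variable {m : ℕ} {s : Fin m → ℕ} (hs : ∀ i, s i < D.nroots)

theorem inv_of [IsAlgClosed k] [Fact p.Prime] [CharP k p] (hk : LocFin k) (h5 : 5 ≤ p)
    (hgl : ∀ r < D.nroots, gl D (List.ofFn s) r ≠ 0) (hgood : ∀ i, good D (s i) = true) (hlng : ∀ i, lng D (s i) = true)
    {T0 : ℤ} (hchk : chkInv D l (List.ofFn s) T0 = true)
    (g : ↥(D.group k)) (j : Fin m) (h : ∀ i, g * zz hp (k := k) (hs j) * g⁻¹ ∈
      Subgroup.centralizer ((ph hp k (hs i)).range : Set ↥(D.group k))) :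
    ∃ i, g * zz hp (k := k) (hs j) * g⁻¹ = zz hp (hs i) := by
  have h2 : (2 : k) ≠ 0 := two_ne h5
  obtain ⟨n, hndef⟩ : ∃ n, n = g * zz hp (k := k) (hs j) * g⁻¹ := ⟨_, rfl⟩
  rw [← hndef] at h ⊢
  have hn2 : n ^ 2 = 1 := by rw [hndef, conj_pow, zz_sq, mul_one, mul_inv_cancel]
  obtain ⟨hnT, hn1⟩ := mem_TT (hp := hp) (hs := hs) hk hgl h two_ne_zero hn2
  obtain ⟨b, hb, hbr⟩ := exists_bits hp hnT hn2
  unfold chkInv at hchk
  rw [Bool.and_eq_true] at hchk
  obtain ⟨hT, hB⟩ := hchk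
  have hTj : trZ D (s j) = T0 := of_decide_eq_true ((List.all_eq_true.1 hT) (s j) ((List.mem_ofFn' _ _).2 ⟨j, rfl⟩))
  have h6 := (List.all_eq_true.1 hB) b (List.mem_range.2 hb)
  rw [Bool.or_eq_true, Bool.or_eq_true, Bool.or_eq_true, decide_eq_true_iff, decide_eq_true_iff] at h6
  rcases h6 with ((h6 | h6) | h6) | h6
  · -- `n = 1`
    exfalso
    have h7 : n = 1 := by
      refine eq_one_of_ch hp p hk hnT fun r hr => ?_
      rw [hbr r hr, h6]
      have h8 : pr D l 0 r = 0 := by simp [pr]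
      rw [h8, zpow_zero]
    rw [hndef] at h7
    have h8 : zz hp (k := k) (hs j) = 1 := by
      calc zz hp (k := k) (hs j) = g⁻¹ * (g * zz hp (k := k) (hs j) * g⁻¹) * g := by group
        _ = 1 := by rw [h7]; group
    exact hS_ne_one h2 (good_inj hp (hs j) (hgood j) (hlng j) h2 (h8.trans (map_one (ph hp k (hs j))).symm))
  · -- a frame root with odd pairing
    exfalso
    obtain ⟨s', hs', h7⟩ := List.any_eq_true.1 h6
    obtain ⟨i, rfl⟩ := (List.mem_ofFn' _ _).1 hs'
    have h8 := hbr (s i) (hs i)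
    rw [hn1 i, neg_one_zpow_eq, if_neg (of_decide_eq_true h7), Int.cast_neg, Int.cast_one] at h8
    exact h2 (by linear_combination h8)
  · obtain ⟨s', hs', h7⟩ := List.any_eq_true.1 h6
    obtain ⟨i, rfl⟩ := (List.mem_ofFn' _ _).1 hs'
    refine ⟨i, cX_inj hp hnT (zz_mem hp (hs i)) fun j' => ?_⟩
    have h8 := of_decide_eq_true ((List.all_eq_true.1 h7) j' (List.mem_finRange j'))
    have hlt := simple_lt hp.inList (lt_rank hp j')
    rw [cX_sr, cX_sr, ← vec_simple hp j', hbr _ hlt]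
    unfold zz
    rw [ch_ph_hS hp (hs i) p hk (neg_ne_zero.2 one_ne_zero) hlt, neg_one_zpow_eq, neg_one_zpow_eq]
    have h9 : pr D l b (D.simple j') = if b.testBit j' then 1 else 0 := by
      unfold pr
      rw [← Fin.sum_univ_def, Finset.sum_eq_single j']
      · congr 1
        rw [rt_simple hp.checked (lt_rank hp j'), if_pos rfl]
      · intro i' _ hi'
        split_ifs
        · rw [rt_simple hp.checked (lt_rank hp j'), if_neg (fun h => hi' (Fin.ext h))]
        · rfl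
      · intro h; exact absurd (Finset.mem_univ _) h
    rw [h9]
    have e1 : ((if b.testBit j' then (1 : ℤ) else 0) % 2 = 0) ↔ HMatDiagAll.expo D (s i) (D.simple j') % 2 = 0 := by
      omega
    simp only [e1]
  · exfalso
    have e1 := trace_TT hp (p := p) hk hnT (f := pr D l b) hbr
    have e2 := trace_TT hp (p := p) hk (zz_mem hp (k := k) (hs j)) (f := HMatDiagAll.expo D (s j)) fun r hr => by
      unfold zz
      exact ch_ph_hS hp (hs j) p hk (neg_ne_zero.2 one_ne_zero) hr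
    have e3 : Matrix.trace ((n : GL D.Idx k) : Matrix D.Idx D.Idx k) =
        Matrix.trace ((zz hp (k := k) (hs j) : GL D.Idx k) : Matrix D.Idx D.Idx k) := by
      rw [hndef]
      exact Matrix.trace_units_conj (g : GL D.Idx k) _
    have e4 : ((trN D l b - T0 : ℤ) : k) = 0 := by
      rw [Int.cast_sub, ← hTj, sub_eq_zero]
      exact e1.symm.trans (e3.trans e2)
    exact cast_ne (k := k) h5 h6 e4

theorem zinj_of [Fact p.Prime] [CharP k p] (hk : LocFin k) (h5 : 5 ≤ p) (hinj : Function.Injective s)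
    (hchk : chkZ D (List.ofFn s) = true) (i j : Fin m) (h : zz hp (k := k) (hs i) = zz hp (hs j)) : i = j := by
  have h2 : (2 : k) ≠ 0 := two_ne h5
  have h3 := (List.all_eq_true.1 hchk) (s i) ((List.mem_ofFn' _ _).2 ⟨i, rfl⟩)
  have h4 := (List.all_eq_true.1 h3) (s j) ((List.mem_ofFn' _ _).2 ⟨j, rfl⟩)
  rw [Bool.or_eq_true, decide_eq_true_iff] at h4
  rcases h4 with h4 | h4
  · exact hinj h4
  · exfalso
    obtain ⟨r, hr, h6⟩ := List.any_eq_true.1 h4
    have h6' := of_decide_eq_true h6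
    have hr' := List.mem_range.1 hr
    have e1 := ch_ph_hS hp (hs i) p hk (c := (-1 : k)) (neg_ne_zero.2 one_ne_zero) hr'
    have e2 := ch_ph_hS hp (hs j) p hk (c := (-1 : k)) (neg_ne_zero.2 one_ne_zero) hr'
    unfold zz at h
    rw [h, e2, neg_one_zpow_eq, neg_one_zpow_eq] at e1
    split_ifs at e1 with h7 h8 h8
    · omega
    · push_cast at e1
      exact h2 (by linear_combination e1)
    · push_cast at e1
      exact h2 (by linear_combination -e1)
    · omega

theorem ort_of (hchk : chkO D (List.ofFn s) = true) (hinj : Function.Injective s) (i j : Fin m) (hij : i ≠ j) (A B : SL k) :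
    ph hp k (hs i) A * ph hp k (hs j) B = ph hp k (hs j) B * ph hp k (hs i) A := by
  have h3 := (List.all_eq_true.1 hchk) (s i) ((List.mem_ofFn' _ _).2 ⟨i, rfl⟩)
  have h4 := (List.all_eq_true.1 h3) (s j) ((List.mem_ofFn' _ _).2 ⟨j, rfl⟩)
  rw [Bool.or_eq_true, Bool.and_eq_true, Bool.and_eq_true, Bool.and_eq_true, Bool.and_eq_true, decide_eq_true_iff,
    decide_eq_true_iff] at h4
  rcases h4 with h4 | ⟨⟨⟨⟨h1, h2⟩, h3⟩, h4⟩, h5⟩
  · exact absurd (hinj h4) hij
  · have h6 := ph_comm hp (k := k) (hs i) (hs j) (fun e => hij (hinj e.symm)) h1 h2 h3 h4 h5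
    exact (Subgroup.mem_centralizer_iff.1 (h6 ⟨B, rfl⟩)) _ ⟨A, rfl⟩

/-- **The data from the check.** -/
theorem frAll_of (L : Lac D) (hgl : ∀ r < D.nroots, gl D (List.ofFn s) r ≠ 0) {T0 : ℤ}
    (hchk : chkAll D l (List.ofFn s) T0 = true) : FrAll hp s hs := by
  intro k _ _ p _ _ hk h5 Γ hΓ
  unfold chkAll at hchk
  rw [Bool.and_eq_true, Bool.and_eq_true, Bool.and_eq_true, Bool.and_eq_true, decide_eq_true_iff] at hchk
  obtain ⟨⟨⟨⟨h1, h2⟩, h3⟩, h4⟩, h6⟩ := hchk
  have hgl' : ∀ i, good D (s i) = true ∧ lng D (s i) = true := by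
    intro i
    have h7 := (List.all_eq_true.1 h1) (s i) ((List.mem_ofFn' _ _).2 ⟨i, rfl⟩)
    rwa [Bool.and_eq_true] at h7
  have hinj : Function.Injective s := List.nodup_ofFn.1 h2
  exact ⟨L, fun i => (hgl' i).1, fun i => (hgl' i).2, hinj, fun i j hij A B => ort_of hp hs h3 hinj i j hij A B, hΓ,
    fun g j h => inv_of hp hs hk h5 hgl (fun i => (hgl' i).1) (fun i => (hgl' i).2) h4 g j h,
    fun i j h => zinj_of hp hs hk h5 hinj h6 i j h⟩

end Cfsg.Agent.H971.RV
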