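import Cfsg.Agent.H971.RV.Fr

/-!
# TEAM RV, row R5 for `F₄, E₆, ²E₆, E₇, E₈`: `3`-groups centralising one of the involutions (helper971)
-/

set_option autoImplicit false
set_option linter.unusedSectionVars false

namespace Cfsg.Agent.H971.RV

open CoxeterSystem Cfsg Cfsg.Lie Cfsg.Lie.ChevalleyDatum
open Cfsg.Agent.ChevalleyStructure Cfsg.Agent.ChevalleyStructure.Elts Cfsg.Agent.ChevalleyStructure.CoxeterGeom
  Cfsg.Agent.ChevalleyStructure.CoxeterGeomTypes Cfsg.Agent.ChevalleyStructure.NPerm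
open Cfsg.Agent.Tits.Roots Cfsg.Agent.Tits.Core Cfsg.Agent.Nodes Cfsg.Agent.Nodes.Reps Cfsg.Agent.Nodes.BNOf
  Cfsg.Agent.Nodes.RGDChev Cfsg.Agent.Nodes.Bruhat Cfsg.Agent.Nodes.NormalForm
open Cfsg.Agent.KFacts.RgdField Cfsg.Agent.KFacts.RgdChevCoord
open Cfsg.Agent.BpExc Cfsg.Agent.BpExc.TorCent Cfsg.Agent.BpExc.TorChev Cfsg.Agent.BpExc.Tow
  Cfsg.Agent.BpExc.TowChev Cfsg.Agent.BpExc.Fr Cfsg.Agent.BpExc.Pair Cfsg.Agent.BpExc.LangFr Cfsg.Agent.GpExc.Field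
  Cfsg.Agent.BpExc.TorAll
open Cfsg.Agent.H469.Exc Cfsg.Agent.H469.Exc.SigFr
open Cfsg.Agent.Nodes.RGDFoldSL
open Cfsg.Agent.H167.EX Cfsg.Agent.H512.LinFour.IdealF
open Module

universe u v

/-! ### abstract part -/

section Abs

variable {A : Type u} {G : Type v} {H : Type*} [Group A] [Group G] [Group H] (φ : A →* G) (f : H →* G) (C : Subgroup G)
  (hC : ∀ a, ∀ c ∈ C, c * φ a = φ a * c)

/-- the pairs `(a, h)` with `f h ∈ φ a C` -/
def Rel (hC : ∀ a, ∀ c ∈ C, c * φ a = φ a * c) : Subgroup (A × H) where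
  carrier := {x | (φ x.1)⁻¹ * f x.2 ∈ C}
  one_mem' := by
    show (φ 1)⁻¹ * f 1 ∈ C
    rw [map_one, map_one, inv_one, mul_one]; exact one_mem C
  mul_mem' := by
    rintro ⟨a, h⟩ ⟨a', h'⟩ h1 h2
    have h1' : (φ a)⁻¹ * f h ∈ C := h1
    have h2' : (φ a')⁻¹ * f h' ∈ C := h2
    show (φ (a * a'))⁻¹ * f (h * h') ∈ C
    have h3 := hC a' _ h1'
    have h4 : (φ (a * a'))⁻¹ * f (h * h') = ((φ a)⁻¹ * f h) * ((φ a')⁻¹ * f h') := by
      rw [map_mul, map_mul]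
      calc (φ a * φ a')⁻¹ * (f h * f h') = (φ a')⁻¹ * (((φ a)⁻¹ * f h) * φ a') * ((φ a')⁻¹ * f h') := by group
        _ = (φ a')⁻¹ * (φ a' * ((φ a)⁻¹ * f h)) * ((φ a')⁻¹ * f h') := by rw [h3]
        _ = _ := by group
    rw [h4]
    exact mul_mem h1' h2'
  inv_mem' := by
    rintro ⟨a, h⟩ h1
    have h1' : (φ a)⁻¹ * f h ∈ C := h1
    show (φ a⁻¹)⁻¹ * f h⁻¹ ∈ C
    have h3 := hC a _ (inv_mem h1')
    have h4 : (φ a⁻¹)⁻¹ * f h⁻¹ = ((φ a)⁻¹ * f h)⁻¹ := by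
      rw [map_inv, map_inv, inv_inv]
      calc φ a * (f h)⁻¹ = φ a * ((φ a)⁻¹ * f h)⁻¹ * (φ a)⁻¹ := by group
        _ = ((φ a)⁻¹ * f h)⁻¹ * φ a * (φ a)⁻¹ := by rw [h3]
        _ = _ := by group
    rw [h4]
    exact inv_mem h1'

theorem mem_Rel {x : A × H} : x ∈ Rel φ f C hC ↔ (φ x.1)⁻¹ * f x.2 ∈ C := Iff.rfl

theorem card_mul {X Y : Type*} [Group X] [Group Y] (g : X →* Y) : Nat.card X = Nat.card g.range * Nat.card g.ker := by
  rw [← Subgroup.index_ker, mul_comm, Subgroup.card_mul_index]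

/-- **The estimate.** -/
theorem card_three_le [Finite H] (N : Subgroup A) (hN : Nat.card N = 2) (hker : ∀ a, φ a ∈ C → a ∈ N) {p : ℕ}
    (hp : p.Prime) (hp2 : p ≠ 2) (hH : ¬ p ∣ Nat.card H)
    (hdick : Finite ((Rel φ f C hC).map (MonoidHom.fst A H)) → ¬ p ∣ Nat.card ((Rel φ f C hC).map (MonoidHom.fst A H)) →
      ∀ Q ≤ (Rel φ f C hC).map (MonoidHom.fst A H), IsPGroup 3 Q → Nat.card Q ≤ 3)
    (Q : Subgroup H) (hQ : IsPGroup 3 Q) (hQL : ∀ h ∈ Q, ∃ a, (a, h) ∈ Rel φ f C hC) (E : Subgroup H)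
    (hE : ∀ h, f h ∈ C → h ∈ E) : Nat.card Q ≤ 3 * Nat.card ↥(Q ⊓ E) := by
  classical
  have : Fact (Nat.Prime 3) := ⟨Nat.prime_three⟩
  set R := Rel φ f C hC with hR
  -- the projection to `H`
  let π₂ : R →* H := (MonoidHom.snd A H).comp R.subtype
  have hkerle : ∀ x : π₂.ker, (x : R).1.1 ∈ N := by
    rintro ⟨⟨⟨a, h⟩, hx⟩, hk⟩
    have h1 : h = 1 := hk
    subst h1
    have h2 : (φ a)⁻¹ * f 1 ∈ C := hx
    rw [map_one, mul_one] at h2
    exact hker a (by simpa using inv_mem h2)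
  have : Finite N := Nat.finite_of_card_ne_zero (by rw [hN]; norm_num)
  let j : π₂.ker →* N := ((MonoidHom.fst A H).comp (R.subtype.comp π₂.ker.subtype)).codRestrict N hkerle
  have hj : Function.Injective j := by
    rw [injective_iff_map_eq_one]
    rintro ⟨⟨⟨a, h⟩, hx⟩, hk⟩ h1
    have h2 : h = 1 := hk
    have h3 : a = 1 := congrArg Subtype.val h1
    subst h2 h3
    rfl
  have hfinker : Finite π₂.ker := Finite.of_injective j hj
  have hRfin : Finite R := by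
    have : Finite π₂.range := inferInstance
    exact (MonoidHom.finite_iff_finite_ker_range π₂).2 ⟨hfinker, this⟩
  have hkerdvd : Nat.card π₂.ker ∣ 2 := by
    rw [← hN]
    exact Subgroup.card_dvd_of_injective j hj
  have hRp : ¬ p ∣ Nat.card R := by
    rw [card_mul π₂, hp.dvd_mul]
    rintro (h | h)
    · exact hH (h.trans (Subgroup.card_subgroup_dvd_card _))
    · exact hp2 ((Nat.prime_dvd_prime_iff_eq hp Nat.prime_two).1 (h.trans hkerdvd))
  have hΓfin : Finite (R.map (MonoidHom.fst A H)) := by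
    have h1 : Function.Surjective ((MonoidHom.fst A H).subgroupMap R) := (MonoidHom.fst A H).subgroupMap_surjective R
    exact Finite.of_surjective _ h1
  have hΓp : ¬ p ∣ Nat.card (R.map (MonoidHom.fst A H)) := fun h => hRp (h.trans (Subgroup.card_map_dvd R (MonoidHom.fst A H)))
  have hd := hdick hΓfin hΓp
  -- the part over `Q`
  set RQ : Subgroup (A × H) := R ⊓ Q.comap (MonoidHom.snd A H) with hRQ
  have hRQfin : Finite RQ := Finite.of_injective _ (Subgroup.inclusion_injective (inf_le_left : RQ ≤ R))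
  let πQ : RQ →* Q := ((MonoidHom.snd A H).comp RQ.subtype).codRestrict Q (fun x => x.2.2)
  have hπQ : Function.Surjective πQ := by
    rintro ⟨h, hh⟩
    obtain ⟨a, ha⟩ := hQL h hh
    exact ⟨⟨(a, h), ha, hh⟩, rfl⟩
  have hdvd : Nat.card Q ∣ Nat.card RQ := Subgroup.card_dvd_of_surjective πQ hπQ
  obtain ⟨n, hn⟩ := IsPGroup.iff_card.1 hQ
  obtain ⟨P, hP⟩ := Sylow.exists_subgroup_card_pow_prime (G := RQ) 3 (n := n) (by rw [← hn]; exact hdvd)
  have hPp : IsPGroup 3 P := IsPGroup.of_card hP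
  -- the projection of `P` to `A`
  let π₁ : P →* A := (MonoidHom.fst A H).comp (RQ.subtype.comp P.subtype)
  have h1 : Nat.card π₁.range ≤ 3 := by
    refine hd _ ?_ (hPp.of_surjective π₁.rangeRestrict π₁.rangeRestrict_surjective)
    rintro _ ⟨x, rfl⟩
    exact ⟨((x : RQ) : A × H), x.1.2.1, rfl⟩
  have hk2 : ∀ x : π₁.ker, ((x : P) : RQ).1.2 ∈ Q ⊓ E := by
    rintro ⟨⟨⟨⟨a, h⟩, hx⟩, hx'⟩, hk⟩
    have h3 : a = 1 := hk
    subst h3
    refine ⟨hx.2, hE h ?_⟩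
    have h4 : (φ 1)⁻¹ * f h ∈ C := hx.1
    rwa [map_one, inv_one, one_mul] at h4
  let j2 : π₁.ker →* ↥(Q ⊓ E) :=
    ((MonoidHom.snd A H).comp (RQ.subtype.comp (P.subtype.comp π₁.ker.subtype))).codRestrict (Q ⊓ E) hk2
  have hj2 : Function.Injective j2 := by
    rw [injective_iff_map_eq_one]
    rintro ⟨⟨⟨⟨a, h⟩, hx⟩, hx'⟩, hk⟩ h1
    have h2 : a = 1 := hk
    have h3 : h = 1 := congrArg Subtype.val h1
    subst h2 h3
    rfl
  calc Nat.card Q = Nat.card P := by rw [hn, hP]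
    _ = Nat.card π₁.range * Nat.card π₁.ker := card_mul π₁
    _ ≤ 3 * Nat.card ↥(Q ⊓ E) := Nat.mul_le_mul h1 (Nat.card_le_card_of_injective j2 hj2)

end Abs

variable {D : ChevalleyDatum} {l : ℕ} {M : CoxeterMatrix (Fin l)} {hp : IsType D l M} {k : Type u} [Field k] {p : ℕ}
  {m : ℕ} {s : Fin m → ℕ} {hs : ∀ i, s i < D.nroots} {Γ : Subgroup (SL k)}
  {H : Type v} [Group H] (f : H →* ↥(D.group k)) [IsAlgClosed k] [Fact p.Prime] [CharP k p] (h5 : 5 ≤ p) (hk : LocFin k)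
  (O : FrOK hp k p s hs Γ) [Finite H] (hf : Function.Injective f) (hH : ¬ p ∣ Nat.card H)
  (hK : ∀ i, ∀ A ∈ Γ, ph hp k (hs i) A ∈ f.range)

include h5 hk O hf hH hK in
theorem hA (i : Fin m) (Q : Subgroup H) (hQ : IsPGroup 3 Q) (hz : Q ≤ Subgroup.centralizer {zH f O hK i}) :
    Nat.card Q ≤ 3 * Nat.card ↥(Q ⊓ Subgroup.centralizer (KK hp hs Γ f i : Set H)) := by
  have h2 : (2 : k) ≠ 0 := two_ne h5
  have hinj := good_inj hp (hs i) (O.good i) (O.lng i) h2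
  have hC : ∀ A : SL k, ∀ c ∈ Subgroup.centralizer ((ph hp k (hs i)).range : Set ↥(D.group k)),
      c * ph hp k (hs i) A = ph hp k (hs i) A * c := fun A c hc => ((Subgroup.mem_centralizer_iff.1 hc) _ ⟨A, rfl⟩).symm
  have hne : (hS (-1) : SL k) ≠ 1 := by
    intro h
    have h7 : (hS (-1 : k)).1 0 0 = -1 :=
      congrFun (congrFun (coe_hS (t := (-1 : k)) (neg_ne_zero.2 one_ne_zero)) 0) 0
    rw [h] at h7
    have h8 : (1 : k) = -1 := h7
    exact h2 (by linear_combination h8)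
  have hord : orderOf (hS (-1) : SL k) = 2 := orderOf_eq_prime hS_neg_sq hne
  refine card_three_le (ph hp k (hs i)) f (Subgroup.centralizer ((ph hp k (hs i)).range : Set ↥(D.group k))) hC
    (Subgroup.zpowers (hS (-1))) (by rw [Nat.card_zpowers, hord]) (fun a ha => ?_) (p := p) Fact.out (by omega) hH
    (fun hfin hpd Q' hQ' hQ'3 => ?_) Q hQ (fun h hh => ?_) (Subgroup.centralizer (KK hp hs Γ f i : Set H)) fun h hh => ?_
  · -- the kernel
    have h3 : ∀ B ∈ Γ, a * B = B * a := by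
      intro B _
      apply hinj
      rw [map_mul, map_mul]
      exact hC B _ ha
    rcases O.xok.cent a h3 with rfl | rfl
    · exact one_mem _
    · exact Subgroup.mem_zpowers _
  · refine O.xok.dick _ ?_ hfin hpd Q' hQ' hQ'3
    intro B hB
    obtain ⟨b, hb⟩ := hK i B hB
    refine ⟨(B, b), ?_, rfl⟩
    rw [SetLike.mem_coe, mem_Rel]
    show (ph hp k (hs i) B)⁻¹ * f b ∈ _
    rw [hb, inv_mul_cancel]
    exact one_mem _
  · obtain ⟨n, hn⟩ := hQ ⟨h, hh⟩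
    have hn' : h ^ 3 ^ n = 1 := congrArg Subtype.val hn
    have h3 : f h ∈ LC hp (k := k) (hs i) := by
      refine mem_LC_of_comm hp (hs i) h2 p hk (O.good i) ?_ (m := 3 ^ n) (Odd.pow (by decide)) (by rw [← map_pow, hn', map_one])
      have h4 := Subgroup.mem_centralizer_singleton_iff.1 (hz hh)
      rw [← f_zH f O hK i, ← map_mul, ← map_mul, h4]
    obtain ⟨A, c, hc, hA⟩ := (mem_LC hp (hs i)).1 h3
    refine ⟨A, ?_⟩
    rw [mem_Rel]
    show (ph hp k (hs i) A)⁻¹ * f h ∈ _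
    rw [hA, inv_mul_cancel_left]
    exact hc
  · rw [Subgroup.mem_centralizer_iff]
    intro a ha
    obtain ⟨A, -, hA⟩ := (mem_KK f).1 ha
    apply hf
    rw [map_mul, map_mul, ← hA]
    exact (Subgroup.mem_centralizer_iff.1 hh) _ ⟨A, rfl⟩

end Cfsg.Agent.H971.RV
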