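import Cfsg.Agent.H971.RV.Lie
import Cfsg.Agent.H170.RV.Mod

/-!
# TEAM RV, row R5 for `F₄, E₆, ²E₆, E₇, E₈`: THEOREM 60 on `[V, c]` (helper971)
-/

set_option autoImplicit false
set_option linter.unusedSectionVars false

namespace Cfsg.Agent.H971.RV

open CoxeterSystem Cfsg Cfsg.Lie Cfsg.Lie.ChevalleyDatum
open Cfsg.Agent.ChevalleyStructure Cfsg.Agent.Nodes.RGDChev Cfsg.Agent.Nodes.RGDFoldSL
open Cfsg.Agent.H167.EX Cfsg.Agent.H512.LinFour.IdealF
open Module

universe u v

variable {D : ChevalleyDatum} {k : Type u} [Field k]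

/-- **THEOREM 60 on `[V, c]`.** -/
theorem key_comm (p : ℕ) [Fact p.Prime] [CharP k p] (h5 : 5 ≤ p) (L : Lac D) {c : ↥(D.group k)} (hc : c ≠ 1)
    (X : Subgroup ↥(D.group k)) [Finite X] (hX : ¬ p ∣ Nat.card X) (hcX : c ∈ X) (hXc : ∀ x ∈ X, x * c = c * x)
    {t t' : ↥(D.group k)} (ht : t ∈ X) (ht' : t' ∈ X) (h1 : ∀ v, rho D k c (mm t v) = mm t v)
    (h1' : ∀ v, rho D k c (mm t' v) = mm t' v) : t ^ 3 * t' = t' * t ^ 3 := by
  have h2 : (2 : k) ≠ 0 := by
    intro h
    have h3 : p ∣ 2 := (CharP.cast_eq_zero_iff k p 2).1 (by exact_mod_cast h)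
    have := Nat.le_of_dvd (by norm_num) h3
    omega
  let W : Submodule k (D.Idx → k) := LinearMap.range (rho D k c - 1)
  have hinv : ∀ x ∈ X, ∀ w ∈ W, rho D k x w ∈ W := by
    rintro x hx _ ⟨v, rfl⟩
    refine ⟨rho D k x v, ?_⟩
    show rho D k c (rho D k x v) - rho D k x v = rho D k x (rho D k c v - v)
    rw [map_sub, ← Module.End.mul_apply, ← Module.End.mul_apply, ← map_mul, ← map_mul, hXc x hx]
  let ρ : X →* Module.End k W :=
    { toFun := fun x => (rho D k x).restrict (hinv x x.2)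
      map_one' := by
        refine LinearMap.ext fun w => Subtype.ext ?_
        show rho D k 1 w.1 = w.1
        rw [map_one]; rfl
      map_mul' := by
        intro x y
        refine LinearMap.ext fun w => Subtype.ext ?_
        show rho D k (x * y : X) w.1 = rho D k x (rho D k y w.1)
        rw [Subgroup.coe_mul, map_mul]; rfl }
  have hkill : ∀ s : ↥(D.group k), ∀ hs : s ∈ X, (∀ v, rho D k c (mm s v) = mm s v) →
      (ρ ⟨s, hs⟩ - 1) * (ρ ⟨s, hs⟩ * ρ ⟨s, hs⟩ - ρ ⟨s, hs⟩ + 1) = 0 := by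
    intro s hs hfix
    refine LinearMap.ext fun w => Subtype.ext ?_
    obtain ⟨w, v, hv⟩ := w
    show mm s w = 0
    rw [← hv]
    show mm s (rho D k c v - v) = 0
    have h3 : mm s * rho D k c = rho D k c * mm s := by
      have h4 : rho D k s * rho D k c = rho D k c * rho D k s := by rw [← map_mul, ← map_mul, hXc s hs]
      have h6 : Commute (rho D k c) (rho D k s) := h4.symm
      have h7 : Commute (rho D k c) (mm s) := by
        unfold mm
        exact (h6.sub_right (Commute.one_right _)).mul_right (((h6.mul_right h6).sub_right h6).add_right (Commute.one_right _))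
      exact h7.symm
    have h4 : mm s (rho D k c v) = rho D k c (mm s v) := congrArg (fun f : End k (D.Idx → k) => f v) h3
    rw [map_sub, h4, hfix, sub_self]
  have h60 := H170.RV.t60_mod p h5 hX ρ ⟨t, ht⟩ ⟨t', ht'⟩ (hkill t ht h1) (hkill t' ht' h1')
  have hg : (t' * t ^ 3)⁻¹ * (t ^ 3 * t') = 1 := by
    have hn : ((Nat.card X : ℕ) : k) ≠ 0 := by
      intro h
      exact hX ((CharP.cast_eq_zero_iff k p _).1 h)
    have hcn : c ^ Nat.card X = 1 := by
      have h3 : (⟨c, hcX⟩ : X) ^ Nat.card X = 1 := pow_card_eq_one'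
      exact congrArg Subtype.val h3
    refine faithful L h2 hc hn hcn fun v => ?_
    have h3 : rho D k (t ^ 3 * t') (rho D k c v - v) = rho D k (t' * t ^ 3) (rho D k c v - v) := by
      have h4 := congrArg (fun f : End k W => ((f ⟨rho D k c v - v, v, rfl⟩ : W) : D.Idx → k)) h60
      rw [map_mul, map_mul]
      exact h4
    rw [map_mul, Module.End.mul_apply, h3, ← Module.End.mul_apply, ← map_mul, inv_mul_cancel, map_one]
    rfl
  exact (inv_mul_eq_one.1 hg).symm

end Cfsg.Agent.H971.RV
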