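import Cfsg.Agent.H971.RV.HA

/-!
# TEAM RV, row R5 for `F₄, E₆, ²E₆, E₇, E₈`: a `p'`-group containing the `SL₂(3)`'s has a small `3`-part (helper971)
-/

set_option autoImplicit false
set_option linter.unusedSectionVars false

namespace Cfsg.Agent.H971.RV

open CoxeterSystem Cfsg Cfsg.Lie Cfsg.Lie.ChevalleyDatum
open Cfsg.Agent.ChevalleyStructure Cfsg.Agent.ChevalleyStructure.Elts Cfsg.Agent.ChevalleyStructure.CoxeterGeom
  Cfsg.Agent.ChevalleyStructure.CoxeterGeomTypes Cfsg.Agent.ChevalleyStructure.NPerm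
open Cfsg.Agent.Tits.Roots Cfsg.Agent.Tits.Core Cfsg.Agent.Nodes Cfsg.Agent.Nodes.Reps Cfsg.Agent.Nodes.BNOf
  Cfsg.Agent.Nodes.RGDChev Cfsg.Agent.Nodes.Bruhat Cfsg.Agent.Nodes.NormalForm
open Cfsg.Agent.KFacts.RgdField Cfsg.Agent.KFacts.RgdChevCoord
open Cfsg.Agent.BpExc Cfsg.Agent.BpExc.TorCent Cfsg.Agent.BpExc.TorChev Cfsg.Agent.BpExc.Tow
  Cfsg.Agent.BpExc.TowChev Cfsg.Agent.BpExc.Fr Cfsg.Agent.BpExc.Pair Cfsg.Agent.BpExc.LangFr Cfsg.Agent.GpExc.Field
  Cfsg.Agent.BpExc.TorAll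
open Cfsg.Agent.H469.Exc Cfsg.Agent.H469.Exc.SigFr
open Cfsg.Agent.Nodes.RGDFoldSL
open Cfsg.Agent.H167.EX Cfsg.Agent.H512.LinFour.IdealF
open Module

universe u v

/-! ### three commuting elements of order 3 -/

theorem exists_27 {H : Type v} [Group H] [Finite H] (y : Fin 3 → H) (h3 : ∀ i, orderOf (y i) = 3)
    (hc : ∀ i j, y i * y j = y j * y i)
    (hind : ∀ i, ∀ n : ℕ, ∀ w ∈ Subgroup.closure {x | ∃ j, j ≠ i ∧ x = y j}, y i ^ n = w → y i ^ n = 1) :
    ∃ Y : Subgroup H, IsPGroup 3 Y ∧ (∀ x ∈ Y, x ∈ Subgroup.closure (Set.range y)) ∧ 9 < Nat.card Y := by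
  classical
  let Z : Fin 3 → Subgroup H := fun i => Subgroup.zpowers (y i)
  have hZc : ∀ i j, ∀ (a : Z i) (b : Z j), Commute ((Z i).subtype a) ((Z j).subtype b) := by
    rintro i j ⟨a, ha⟩ ⟨b, hb⟩
    obtain ⟨n, rfl⟩ := ha
    obtain ⟨n', rfl⟩ := hb
    exact (show Commute (y i) (y j) from hc i j).zpow_zpow n n'
  let g₁ : Z 0 × Z 1 →* H := MonoidHom.noncommCoprod (Z 0).subtype (Z 1).subtype (hZc 0 1)
  have hg₁ : ∀ a b, g₁ (a, b) = a.1 * b.1 := fun a b => rfl
  let g₂ : (Z 0 × Z 1) × Z 2 →* H := MonoidHom.noncommCoprod g₁ (Z 2).subtype (by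
    rintro ⟨a, b⟩ c
    exact (hZc 0 2 a c).mul_left (hZc 1 2 b c))
  have hg₂ : ∀ a b c, g₂ ((a, b), c) = a.1 * b.1 * c.1 := fun a b c => rfl
  have hpow : ∀ i, ∀ a : Z i, ∃ n : ℕ, y i ^ n = a.1 := by
    rintro i ⟨a, ha⟩
    exact mem_powers_iff_mem_zpowers.2 ha
  have hcl : ∀ i j, j ≠ i → ∀ a : Z j, a.1 ∈ Subgroup.closure {x | ∃ j, j ≠ i ∧ x = y j} := by
    rintro i j hij ⟨a, n, rfl⟩
    have h0 : y j ∈ Subgroup.closure {x | ∃ j, j ≠ i ∧ x = y j} := Subgroup.subset_closure ⟨j, hij, rfl⟩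
    exact zpow_mem h0 n
  have hinj : Function.Injective g₂ := by
    rw [injective_iff_map_eq_one]
    rintro ⟨⟨a, b⟩, c⟩ h
    rw [hg₂] at h
    have ha : a.1 = 1 := by
      obtain ⟨n, hn⟩ := hpow 0 a
      rw [← hn]
      refine hind 0 n (b.1 * c.1)⁻¹ (inv_mem (mul_mem (hcl 0 1 (by decide) b) (hcl 0 2 (by decide) c))) ?_
      rw [hn, eq_inv_iff_mul_eq_one, ← mul_assoc]
      exact h
    have hb : b.1 = 1 := by
      obtain ⟨n, hn⟩ := hpow 1 b
      rw [← hn]
      refine hind 1 n (c.1)⁻¹ (inv_mem (hcl 1 2 (by decide) c)) ?_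
      rw [ha, one_mul] at h
      rw [hn, eq_inv_iff_mul_eq_one]
      exact h
    have hcc : c.1 = 1 := by rwa [ha, hb, one_mul, one_mul] at h
    exact Prod.ext (Prod.ext (Subtype.ext ha) (Subtype.ext hb)) (Subtype.ext hcc)
  have hcard : Nat.card g₂.range = 27 := by
    rw [← Nat.card_congr (MonoidHom.ofInjective hinj).toEquiv, Nat.card_prod, Nat.card_prod]
    have h4 : ∀ i, Nat.card (Z i) = 3 := fun i => by rw [Nat.card_zpowers, h3]
    rw [h4, h4, h4]
  refine ⟨g₂.range, IsPGroup.of_card (n := 3) (by rw [hcard]; norm_num), ?_, by rw [hcard]; norm_num⟩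
  rintro _ ⟨⟨⟨a, b⟩, c⟩, rfl⟩
  rw [hg₂]
  have h5 : ∀ i, ∀ a : Z i, a.1 ∈ Subgroup.closure (Set.range y) := by
    rintro i ⟨a, n, rfl⟩
    have h0 : y i ∈ Subgroup.closure (Set.range y) := Subgroup.subset_closure ⟨i, rfl⟩
    exact zpow_mem h0 n
  exact mul_mem (mul_mem (h5 0 a) (h5 1 b)) (h5 2 c)

variable {D : ChevalleyDatum} {l : ℕ} {M : CoxeterMatrix (Fin l)} {hp : IsType D l M} {k : Type u} [Field k] {p : ℕ}
  {m : ℕ} {s : Fin m → ℕ} {hs : ∀ i, s i < D.nroots} {Γ : Subgroup (SL k)}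
  {H : Type v} [Group H] (f : H →* ↥(D.group k)) [IsAlgClosed k] [Fact p.Prime] [CharP k p] (h5 : 5 ≤ p) (hk : LocFin k)
  (O : FrOK hp k p s hs Γ) [Finite H] (hf : Function.Injective f) (hH : ¬ p ∣ Nat.card H)
  (hK : ∀ i, ∀ A ∈ Γ, ph hp k (hs i) A ∈ f.range)

include h5 hk O hf hH hK in
/-- **The `3`-part.** -/
theorem false_of_card (hm3 : 3 ≤ m) (hm : ¬ 3 ∣ m) (c₀ : ℕ)
    (hC : ∀ Q : Subgroup H, IsPGroup 3 Q → (∀ i, ∀ h ∈ Q, f h ∈
      Subgroup.centralizer ((ph hp k (hs i)).range : Set ↥(D.group k))) → Nat.card Q ≤ c₀)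
    (hcard : 3 ^ (m.factorial.factorization 3) * (3 ^ m * c₀) < 3 ^ ((Nat.card H).factorization 3)) : False := by
  classical
  have : Fact (Nat.Prime 3) := ⟨Nat.prime_three⟩
  have h2 : (2 : k) ≠ 0 := two_ne h5
  let F := frame f h5 hk O hf hH hK
  refine F.false_of_card hm c₀ (fun i Q hQ hz => hA f h5 hk O hf hH hK i Q hQ hz) (fun Q hQ hQc => hC Q hQ fun i h hh => ?_)
    ?_ hcard
  · obtain ⟨n, hn⟩ := hQ ⟨h, hh⟩
    have h3 := F.Zthree h i ⟨n, congrArg Subtype.val hn⟩ fun a ha => ((Subgroup.mem_centralizer_iff.1 (hQc i hh)) a ha).symm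
    have h4 : (f 1)⁻¹ * f h * f 1 ∈ Subgroup.centralizer ((ph hp k (hs i)).range : Set ↥(D.group k)) := h3
    rwa [map_one, inv_one, one_mul, mul_one] at h4
  · -- three elements of order 3
    have hΓfin : Finite Γ := Nat.finite_of_card_ne_zero fun h => by
      have h6 := O.xok.card
      rw [h] at h6
      norm_num at h6
    obtain ⟨⟨A, hA⟩, hA3⟩ := exists_prime_orderOf_dvd_card' (G := Γ) 3 O.xok.three_dvd
    have hA3' : orderOf A = 3 := by rw [← hA3]; exact (Subgroup.orderOf_coe ⟨A, hA⟩)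
    have hhne : (hS (-1) : SL k) ≠ 1 := by
      intro h
      have h7 : (hS (-1 : k)).1 0 0 = -1 :=
        congrFun (congrFun (coe_hS (t := (-1 : k)) (neg_ne_zero.2 one_ne_zero)) 0) 0
      rw [h] at h7
      have h8 : (1 : k) = -1 := h7
      exact h2 (by linear_combination h8)
    let e : Fin 3 → Fin m := Fin.castLE hm3
    have he : Function.Injective e := Fin.castLE_injective hm3
    choose b hb using fun i : Fin m => hK i A hA
    have hinj : ∀ i, Function.Injective (ph hp k (hs i)) := fun i => good_inj hp (hs i) (O.good i) (O.lng i) h2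
    have hbK : ∀ i, b i ∈ KK hp hs Γ f i := fun i => (mem_KK f).2 ⟨A, hA, (hb i).symm⟩
    have hcommb : ∀ i j, b i * b j = b j * b i := by
      intro i j
      by_cases hij : i = j
      · rw [hij]
      · apply hf
        rw [map_mul, map_mul, hb, hb]
        exact O.ort i j hij A A
    have hord : ∀ i, orderOf (b i) = 3 := by
      intro i
      rw [← orderOf_injective f hf, hb, orderOf_injective _ (hinj i), hA3']
    obtain ⟨Y, hY3, hYc, hY9⟩ := exists_27 (fun i => b (e i)) (fun i => hord _) (fun i j => hcommb _ _) (by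
      intro i n w hw hyw
      have h6 : w ∈ (Subgroup.centralizer ((ph hp k (hs (e i))).range : Set ↥(D.group k))).comap f := by
        refine (Subgroup.closure_le _).2 ?_ hw
        rintro _ ⟨j, hij, rfl⟩
        show f (b (e j)) ∈ Subgroup.centralizer ((ph hp k (hs (e i))).range : Set ↥(D.group k))
        rw [hb, Subgroup.mem_centralizer_iff]
        rintro _ ⟨B, rfl⟩
        exact O.ort (e i) (e j) (fun h => hij (he h).symm) B A
      have h7 : ph hp k (hs (e i)) (A ^ n) ∈ Subgroup.centralizer ((ph hp k (hs (e i))).range : Set ↥(D.group k)) := by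
        rw [map_pow, ← hb, ← map_pow, hyw]
        exact h6
      have h8 := O.xok.cent (A ^ n) fun B _ => by
        apply hinj (e i)
        rw [map_mul, map_mul]
        exact ((Subgroup.mem_centralizer_iff.1 h7) _ ⟨B, rfl⟩).symm
      have h9 : A ^ n = 1 := by
        rcases h8 with h8 | h8
        · exact h8
        · exfalso
          have h10 : (A ^ n) ^ 3 = 1 := by rw [← pow_mul, mul_comm, pow_mul, ← hA3', pow_orderOf_eq_one, one_pow]
          rw [h8] at h10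
          apply hhne
          calc hS (-1 : k) = hS (-1) ^ 3 * ((hS (-1)) ^ 2)⁻¹ := by group
            _ = 1 := by rw [h10, hS_neg_sq]; group
      apply hf
      rw [map_pow, hb, ← map_pow, h9, map_one, map_one])
    refine ⟨Y, hY3, ?_, hY9⟩
    intro y hy
    rw [Frame.mem_stab]
    intro i
    refine ⟨i, ?_⟩
    have h6 : y ∈ Subgroup.centralizer {F.z i} := by
      refine (Subgroup.closure_le _).2 ?_ (hYc y hy)
      rintro _ ⟨j, rfl⟩
      rw [SetLike.mem_coe, Subgroup.mem_centralizer_singleton_iff]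
      exact (F.zK i (e j) _ (hbK (e j))).symm
    rw [Subgroup.mem_centralizer_singleton_iff] at h6
    rw [h6, mul_inv_cancel_right]

end Cfsg.Agent.H971.RV
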