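import Cfsg.Agent.H971.RV.Main
import Cfsg.Agent.H571.RV.Pred

/-!
# TEAM RV, row R5 for `F₄, E₆, ²E₆, E₇, E₈`: from `DB` to the frame argument (helper971)
-/

set_option autoImplicit false
set_option linter.unusedSectionVars false

namespace Cfsg.Agent.H971.RV

open CoxeterSystem Cfsg Cfsg.Lie Cfsg.Lie.ChevalleyDatum
open Cfsg.Agent.ChevalleyStructure Cfsg.Agent.ChevalleyStructure.Elts Cfsg.Agent.ChevalleyStructure.CoxeterGeom
  Cfsg.Agent.ChevalleyStructure.CoxeterGeomTypes Cfsg.Agent.ChevalleyStructure.NPerm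
open Cfsg.Agent.Tits.Roots Cfsg.Agent.Tits.Core Cfsg.Agent.Nodes Cfsg.Agent.Nodes.Reps Cfsg.Agent.Nodes.BNOf
  Cfsg.Agent.Nodes.RGDChev Cfsg.Agent.Nodes.Bruhat Cfsg.Agent.Nodes.NormalForm
open Cfsg.Agent.KFacts.RgdField Cfsg.Agent.KFacts.RgdChevCoord
open Cfsg.Agent.BpExc Cfsg.Agent.BpExc.TorCent Cfsg.Agent.BpExc.TorChev Cfsg.Agent.BpExc.Tow
  Cfsg.Agent.BpExc.TowChev Cfsg.Agent.BpExc.Fr Cfsg.Agent.BpExc.Pair Cfsg.Agent.BpExc.LangFr Cfsg.Agent.GpExc.Field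
  Cfsg.Agent.BpExc.TorAll
open Cfsg.Agent.H469.Exc Cfsg.Agent.H469.Exc.SigFr
open Cfsg.Agent.Nodes.RGDFoldSL
open Cfsg.Agent.H167.EX Cfsg.Agent.H512.LinFour.IdealF Cfsg.Agent.H571.RV Cfsg.Agent.H988.CPi
open Module

universe u v

variable {D : ChevalleyDatum} {l : ℕ} {M : CoxeterMatrix (Fin l)} {hp : IsType D l M} {k : Type u} [Field k] {p : ℕ}
  {m : ℕ} {s : Fin m → ℕ} {hs : ∀ i, s i < D.nroots} {Γ : Subgroup (SL k)}
  {S : Type v} [Group S] [Finite S] (f : S →* ↥(D.group k)) [IsAlgClosed k] [Fact p.Prime] [CharP k p] (h5 : 5 ≤ p)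
  (hk : LocFin k) (O : FrOK hp k p s hs Γ) (hf : Function.Injective f)
  (hK : ∀ i, ∀ A ∈ Γ, ph hp k (hs i) A ∈ f.range)

include O hf in
/-- the product of the `SL₂(3)`'s is a `{2, 3}`-group -/
theorem piN_sup {π : Set ℕ} (h2 : 2 ∈ π) (h3 : 3 ∈ π) : PiN π (Nat.card ↥(⨆ i, KK hp hs Γ f i)) := by
  classical
  have hcomm : Pairwise fun i j => ∀ x y, x ∈ KK hp hs Γ f i → y ∈ KK hp hs Γ f j → Commute x y := by
    intro i j hij x y hx hy
    obtain ⟨A, -, hA⟩ := (mem_KK f).1 hx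
    obtain ⟨B, -, hB⟩ := (mem_KK f).1 hy
    apply hf
    rw [map_mul, map_mul, ← hA, ← hB]
    exact O.ort i j hij A B
  have hr := Subgroup.noncommPiCoprod_range (hcomm := hcomm)
  have hcard : ∀ i, Nat.card (KK hp hs Γ f i) ∣ 24 := by
    intro i
    let g : KK hp hs Γ f i →* ↥(Γ.map (ph hp k (hs i))) := (f.comp (KK hp hs Γ f i).subtype).codRestrict _ fun x => x.2
    have hg : Function.Injective g := by
      intro x y hxy
      exact Subtype.ext (hf (congrArg Subtype.val hxy))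
    have hΓfin : Finite Γ := Nat.finite_of_card_ne_zero fun h => by
      have h6 := O.xok.card
      rw [h] at h6
      norm_num at h6
    have hfin : Finite ↥(Γ.map (ph hp k (hs i))) := Finite.of_surjective _ ((ph hp k (hs i)).subgroupMap_surjective Γ)
    exact (Subgroup.card_dvd_of_injective g hg).trans ((Subgroup.card_map_dvd Γ (ph hp k (hs i))).trans O.xok.card)
  intro q hq hd
  rw [← hr] at hd
  have h4 : Nat.card (Subgroup.noncommPiCoprod hcomm).range ∣ Nat.card (∀ i, KK hp hs Γ f i) :=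
    Subgroup.card_range_dvd _
  rw [Nat.card_pi] at h4
  obtain ⟨i, -, hi⟩ := (Prime.dvd_finsetProd_iff hq.prime _).1 (hd.trans h4)
  have h5 : q ∣ 24 := hi.trans (hcard i)
  have h6 : q ∣ 2 ^ 3 * 3 := by norm_num; exact h5
  rcases (hq.dvd_mul).1 h6 with h7 | h7
  · rw [(Nat.prime_dvd_prime_iff_eq hq Nat.prime_two).1 (hq.dvd_of_dvd_pow h7)]; exact h2
  · rw [(Nat.prime_dvd_prime_iff_eq hq Nat.prime_three).1 h7]; exact h3

include h5 hk O hf hK in
/-- **The general row.** -/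
theorem not_DB_of {π : Set ℕ} (h2π : 2 ∈ π) (h3π : 3 ∈ π) (hpπ : p ∉ π) (hm3 : 3 ≤ m) (hm : ¬ 3 ∣ m) (c₀ : ℕ)
    (hC : ∀ Q : Subgroup S, IsPGroup 3 Q → (∀ i, ∀ h ∈ Q, f h ∈
      Subgroup.centralizer ((ph hp k (hs i)).range : Set ↥(D.group k))) → Nat.card Q ≤ c₀)
    (hcard : 3 ^ (m.factorial.factorization 3) * (3 ^ m * c₀) < 3 ^ ((Nat.card S).factorization 3)) : ¬ DB π S := by
  intro hDB
  obtain ⟨H, hH, hle⟩ := hDB.dom _ (piN_sup (hp := hp) (hs := hs) f O hf h2π h3π)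
  have hKH : ∀ i, KK hp hs Γ f i ≤ H := fun i => (le_iSup (fun i => KK hp hs Γ f i) i).trans hle
  have hpH : ¬ p ∣ Nat.card H := fun h => hpπ (hH.1 p Fact.out h)
  have h3H : ¬ 3 ∣ H.index := hH.2 3 Nat.prime_three h3π
  have h3card : (Nat.card H).factorization 3 = (Nat.card S).factorization 3 := by
    rw [← Subgroup.card_mul_index H, Nat.factorization_mul Nat.card_pos.ne' H.index_ne_zero_of_finite,
      Finsupp.add_apply, Nat.factorization_eq_zero_of_not_dvd h3H, add_zero]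
  refine false_of_card (hp := hp) (hs := hs) (f.comp H.subtype) h5 hk O (hf.comp H.subtype_injective) hpH (fun i A hA => ?_)
    hm3 hm c₀ (fun Q hQ hQc => ?_) (by rw [h3card]; exact hcard)
  · obtain ⟨x, hx⟩ := hK i A hA
    exact ⟨⟨x, hKH i ((mem_KK f).2 ⟨A, hA, hx.symm⟩)⟩, hx⟩
  · have e1 : Nat.card (Q.map H.subtype) = Nat.card Q := Subgroup.card_map_of_injective H.subtype_injective
    rw [← e1]
    refine hC _ (hQ.map _) fun i h hh => ?_
    obtain ⟨x, hx, rfl⟩ := hh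
    exact hQc i x hx

end Cfsg.Agent.H971.RV
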