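import Cfsg.Agent.H971.RV.Embed

/-!
# TEAM RV, row R5 for `F₄, E₆, ²E₆, E₇, E₈`: the general row (helper971)
-/

set_option autoImplicit false
set_option linter.unusedSectionVars false

namespace Cfsg.Agent.H971.RV

open CoxeterSystem Cfsg Cfsg.Lie Cfsg.Lie.ChevalleyDatum
open Cfsg.Agent.ChevalleyStructure Cfsg.Agent.ChevalleyStructure.Elts Cfsg.Agent.ChevalleyStructure.CoxeterGeom
  Cfsg.Agent.ChevalleyStructure.CoxeterGeomTypes Cfsg.Agent.ChevalleyStructure.NPerm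
open Cfsg.Agent.Tits.Roots Cfsg.Agent.Tits.Core Cfsg.Agent.Nodes Cfsg.Agent.Nodes.Reps Cfsg.Agent.Nodes.BNOf
  Cfsg.Agent.Nodes.RGDChev Cfsg.Agent.Nodes.Bruhat Cfsg.Agent.Nodes.NormalForm
open Cfsg.Agent.KFacts.RgdField Cfsg.Agent.KFacts.RgdChevCoord
open Cfsg.Agent.BpExc Cfsg.Agent.BpExc.TorCent Cfsg.Agent.BpExc.TorChev Cfsg.Agent.BpExc.Tow
  Cfsg.Agent.BpExc.TowChev Cfsg.Agent.BpExc.Fr Cfsg.Agent.BpExc.Pair Cfsg.Agent.BpExc.LangFr Cfsg.Agent.GpExc.Field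
  Cfsg.Agent.BpExc.TorAll
open Cfsg.Agent.H469.Exc Cfsg.Agent.H469.Exc.SigFr
open Cfsg.Agent.Nodes.RGDFoldSL
open Cfsg.Agent.ChevalleyStructure.SL2Hom (up lo mem_closure_SL2)
open Cfsg.Agent.H167.EX Cfsg.Agent.H512.LinFour.IdealF Cfsg.Agent.H720.TwFr Cfsg.Agent.H571.RV
open Cfsg.Agent.H836.RV (X3 exists_ab map_X3 map_eq map_two)
open Module

universe u v w

variable {D : ChevalleyDatum} {l : ℕ} {M : CoxeterMatrix (Fin l)} {hp : IsType D l M} {k : Type u} [Field k] {p : ℕ}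
  {m : ℕ} {s : Fin m → ℕ} {hs : ∀ i, s i < D.nroots}

/-- elements centralising the frame lie in the torus -/
theorem mem_TT [IsAlgClosed k] [Fact p.Prime] [CharP k p] (hk : LocFin k) (hgl : ∀ r < D.nroots, gl D (List.ofFn s) r ≠ 0)
    {n : ↥(D.group k)} (hn : ∀ i, n ∈ Subgroup.centralizer ((ph hp k (hs i)).range : Set ↥(D.group k))) {N : ℕ}
    (hN0 : N ≠ 0) (hN : n ^ N = 1) : n ∈ TT D k ∧ ∀ i, ch hp (vec D l (s i)) n = 1 := by
  have hL : ∀ s' ∈ List.ofFn s, s' < D.nroots := by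
    intro s' h
    obtain ⟨i, rfl⟩ := (List.mem_ofFn' _ _).1 h
    exact hs i
  have h1 : n ∈ TT D k := by
    refine mem_TT_of_frame hp p hk (List.ofFn s) hL hgl (fun s' h => ?_) hN0 hN
    obtain ⟨i, rfl⟩ := (List.mem_ofFn' _ _).1 h
    exact hn i
  refine ⟨h1, fun i => ?_⟩
  have h3 := act_xs hp (hs i) h1 (1 : k)
  have h4 := (Subgroup.mem_centralizer_iff.1 (hn i)) (ph hp k (hs i) (up 1)) ⟨_, rfl⟩
  rw [ph_up] at h4
  rw [← h4, mul_inv_cancel_right, mul_one] at h3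
  exact (xG_injective hp.inList (hs i) (congrArg Subtype.val h3)).symm

/-- **The general row.** -/
theorem row_of_setup [IsAlgClosed k] [Fact p.Prime] [CharP k p] (h5 : 5 ≤ p) (hk : LocFin k) {G : Type w} [Group G]
    {ι : G →* ↥(D.group k)} {σ : MulAut ↥(D.group k)} (hinj : Function.Injective ι)
    (hr : ∀ y, σ y = y → (∃ j : ℕ, y ^ p ^ j = 1) → ∃ x, ι x = y)
    (h1 : ∀ i, ∀ t : k, t ^ p = t → σ (xs hp.inList (s i) t) = xs hp.inList (s i) t)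
    (h2 : ∀ i, ∀ t : k, t ^ p = t → σ (xs hp.inList (D.neg (s i)) t) = xs hp.inList (D.neg (s i)) t)
    (O : ∀ Γ : Subgroup (SL k), XOK p Γ → FrOK hp k p s hs Γ)
    (X : ∀ (a b : k) (h : a ^ 2 + b ^ 2 = -1) (h2 : (2 : k) ≠ 0), XOK p (X3 h h2))
    (hgl : ∀ r < D.nroots, gl D (List.ofFn s) r ≠ 0)
    {S : Type v} [Group S] [Finite S] (φ : S ≃* G) {π : Set ℕ} (h2π : 2 ∈ π) (h3π : 3 ∈ π) (hpπ : p ∉ π) (hm3 : 3 ≤ m)
    (hm : ¬ 3 ∣ m) (c₀ : ℕ)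
    (hC : ∀ Q : Subgroup G, IsPGroup 3 Q → (∀ n ∈ Q, ι n ∈ TT D k ∧ ∀ i, ch hp (vec D l (s i)) (ι n) = 1) →
      Nat.card Q ≤ c₀)
    (hcard : 3 ^ (m.factorial.factorization 3) * (3 ^ m * c₀) < 3 ^ ((Nat.card G).factorization 3)) : ¬ DB π S := by
  have hk2 : (2 : k) ≠ 0 := two_ne h5
  obtain ⟨a, b, hab⟩ := exists_ab (ZMod p) p
  have hz2 : (2 : ZMod p) ≠ 0 := two_ne h5
  let f0 : ZMod p →+* k := ZMod.castHom (dvd_refl p) k
  let Γ : Subgroup (SL k) := X3 (map_eq hab f0) (map_two hz2 f0)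
  have hX : XOK p Γ := X _ _ (map_eq hab f0) (map_two hz2 f0)
  have hO := O Γ hX
  have hΓ : (X3 hab hz2).map (Matrix.SpecialLinearGroup.map f0) = Γ := map_X3 hab hz2 f0
  let f : S →* ↥(D.group k) := ι.comp φ.toMonoidHom
  have hf : Function.Injective f := hinj.comp φ.injective
  have hK : ∀ i, ∀ A ∈ Γ, ph hp k (hs i) A ∈ f.range := by
    intro i A hA
    rw [← hΓ] at hA
    obtain ⟨A₀, -, rfl⟩ := hA
    refine ph_mem_range hp p (hs i) f (σ := σ) (fun y hy hj => ?_) (h1 i) (h2 i) f0 A₀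
    obtain ⟨x, hx⟩ := hr y hy hj
    refine ⟨φ.symm x, ?_⟩
    show ι (φ (φ.symm x)) = y
    rw [MulEquiv.apply_symm_apply, hx]
  refine not_DB_of (hp := hp) (hs := hs) f h5 hk hO hf hK h2π h3π hpπ hm3 hm c₀ (fun Q hQ hQc => ?_)
    (by rw [Nat.card_congr φ.toEquiv]; exact hcard)
  have e1 : Nat.card (Q.map φ.toMonoidHom) = Nat.card Q := Subgroup.card_map_of_injective φ.injective
  rw [← e1]
  refine hC _ (hQ.map _) ?_
  rintro _ ⟨x, hx, rfl⟩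
  refine mem_TT (hs := hs) hk hgl (n := ι (φ x)) (fun i => hQc i x hx) (N := Nat.card S) Nat.card_pos.ne' ?_
  rw [← map_pow, ← map_pow, pow_card_eq_one', map_one, map_one]

/-- in the full rank case the constant is 1 -/
theorem card_le_one_of [IsAlgClosed k] [Fact p.Prime] [CharP k p] (hk : LocFin k) {G : Type w} [Group G]
    {ι : G →* ↥(D.group k)} (hinj : Function.Injective ι)
    (htor : ∀ n ∈ TT D k, (∀ i, ch hp (vec D l (s i)) n = 1) → ∃ j : ℕ, n ^ 2 ^ j = 1) (Q : Subgroup G)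
    (hQ : IsPGroup 3 Q) (hQc : ∀ n ∈ Q, ι n ∈ TT D k ∧ ∀ i, ch hp (vec D l (s i)) (ι n) = 1) : Nat.card Q ≤ 1 := by
  have h1 : Q = ⊥ := by
    rw [eq_bot_iff]
    intro n hn
    obtain ⟨h2, h3⟩ := hQc n hn
    obtain ⟨j, hj⟩ := htor _ h2 h3
    obtain ⟨i, hi⟩ := hQ ⟨n, hn⟩
    have hi' : n ^ 3 ^ i = 1 := congrArg Subtype.val hi
    have hj' : n ^ 2 ^ j = 1 := hinj (by rw [map_pow, hj, map_one])
    have h4 := Nat.dvd_gcd (orderOf_dvd_of_pow_eq_one hi') (orderOf_dvd_of_pow_eq_one hj')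
    have h5 : Nat.gcd (3 ^ i) (2 ^ j) = 1 := Nat.Coprime.pow _ _ (by norm_num)
    rw [h5, Nat.dvd_one, orderOf_eq_one_iff] at h4
    exact h4
  rw [h1, Subgroup.card_bot]

end Cfsg.Agent.H971.RV
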