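import Cfsg.Agent.H971.RV.RowsB
import Cfsg.Agent.H475.RV.Tor

/-!
# TEAM RV, row R5 for `F₄, E₆, ²E₆, E₇, E₈`: rows from the combinatorial data (helper971, helper475)
-/

set_option autoImplicit false
set_option linter.unusedSectionVars false

namespace Cfsg.Agent.H971.RV

open Cfsg Cfsg.Lie Cfsg.Lie.ChevalleyDatum
open Cfsg.Agent.H720.TwFr Cfsg.Agent.H571.RV

universe v

variable {F : Type} [Field F] [Fintype F] {p : ℕ} [hFp : CharP F p] {π : Set ℕ} {S : Type v} [Group S]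

theorem not_three_dvd (hpp : p.Prime) (h3π : 3 ∈ π) (hpπ : p ∉ π) : ¬ 3 ∣ Fintype.card F := by
  have := Fact.mk hpp
  obtain ⟨n, -, hn⟩ := FiniteField.card F p
  rw [hn]
  intro h
  have h1 := Nat.prime_three.dvd_of_dvd_pow h
  exact hpπ ((Nat.prime_dvd_prime_iff_eq Nat.prime_three hpp).1 h1 ▸ h3π)

theorem rowF4' (O : FrAll f4T sF4 ltsF4) (hpp : p.Prime) (h2π : 2 ∈ π) (h3π : 3 ∈ π) (hpπ : p ∉ π)
    (hS : Nonempty (S ≃* chevF4.group F)) : ¬ DB π S :=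
  row_F4 (p := p) O hpp h2π h3π hpπ (H475.RV.dvd_F4_six (not_three_dvd (p := p) hpp h3π hpπ)) hS

theorem rowE7' (O : FrAll e7T sE7 ltsE7) (hpp : p.Prime) (h2π : 2 ∈ π) (h3π : 3 ∈ π) (hpπ : p ∉ π)
    (hS : Nonempty (S ≃* chevE7.group F)) : ¬ DB π S :=
  row_E7 (p := p) O hpp h2π h3π hpπ (H475.RV.dvd_E7_ten (not_three_dvd (p := p) hpp h3π hpπ)) hS

theorem rowE8' (O : FrAll e8T sE8 ltsE8) (hpp : p.Prime) (h2π : 2 ∈ π) (h3π : 3 ∈ π) (hpπ : p ∉ π)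
    (hS : Nonempty (S ≃* chevE8.group F)) : ¬ DB π S :=
  row_E8 (p := p) O hpp h2π h3π hpπ (H475.RV.dvd_E8_eleven (not_three_dvd (p := p) hpp h3π hpπ)) hS

theorem rowE6' (O : FrAll hp6 sE6 ltsE6) (hpp : p.Prime) (h2π : 2 ∈ π) (h3π : 3 ∈ π) (hpπ : p ∉ π)
    (hS : Nonempty (S ≃* chevE6.group F)) : ¬ DB π S := by
  have := Fact.mk hpp
  obtain ⟨c₀, hN, hC⟩ := H475.RV.bound_E6 (F := F) (p := p) (fun h => hpπ (h ▸ h3π))
  refine row_E6 (p := p) O hpp h2π h3π hpπ c₀ (fun Q hQ hQc => hC Q hQ fun n hn => ⟨(hQc n hn).1, fun s hs => ?_⟩) hN hS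
  obtain ⟨i, rfl⟩ : ∃ i, sE6 i = s := by
    have h1 : s = 0 ∨ s = 11 ∨ s = 27 ∨ s = 32 := by simpa [H554.BS.FE6] using hs
    rcases h1 with rfl | rfl | rfl | rfl
    · exact ⟨0, rfl⟩
    · exact ⟨1, rfl⟩
    · exact ⟨2, rfl⟩
    · exact ⟨3, rfl⟩
  exact (hQc n hn).2 i

theorem rowTw' (O : FrAll hp6 sE6 ltsE6) (hpp : p.Prime) (h2π : 2 ∈ π) (h3π : 3 ∈ π) (hpπ : p ∉ π)
    {q : ℕ} (hq : IsPrimePow q) (hK : Fintype.card F = q ^ 2) (hS : Nonempty (S ≃* twistedE6 F q)) : ¬ DB π S := by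
  have := Fact.mk hpp
  obtain ⟨c₀, hN, hC⟩ := H475.RV.bound_TE6 (F := F) (p := p) (fun h => hpπ (h ▸ h3π)) hq hK
  refine row_Tw (p := p) O hpp h2π h3π hpπ hq hK c₀ (fun Q hQ hQc => hC Q hQ fun n hn => ⟨(hQc n hn).1, fun s hs => ?_⟩)
    hN hS
  obtain ⟨i, rfl⟩ : ∃ i, sE6 i = s := by
    have h1 : s = 0 ∨ s = 11 ∨ s = 27 ∨ s = 32 := by simpa [H554.BS.FE6] using hs
    rcases h1 with rfl | rfl | rfl | rfl
    · exact ⟨0, rfl⟩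
    · exact ⟨1, rfl⟩
    · exact ⟨2, rfl⟩
    · exact ⟨3, rfl⟩
  exact (hQc n hn).2 i

end Cfsg.Agent.H971.RV
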